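import Mathlib.RingTheory.Unramified.LocalRing
import Mathlib.RingTheory.Smooth.Flat
import Mathlib.RingTheory.DedekindDomain.PID
import Mathlib.RingTheory.DedekindDomain.Dvr
import Mathlib.RingTheory.DiscreteValuationRing.TFAE
import Mathlib.RingTheory.Etale.Basic
import Mathlib.RingTheory.Flat.TorsionFree
import Mathlib.RingTheory.Ideal.MinimalPrime.Noetherian

/-!
# Finite etale algebras over discrete valuation rings are products of principal ideal domains
-/

set_option autoImplicit false
set_option linter.style.haveILetI false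
universe u

open IsLocalRing

namespace DualNormLib

/-- A Noetherian local ring whose maximal ideal is generated by a regular element is a domain. -/
theorem isDomain_of_maximalIdeal_span {R : Type u} [CommRing R] [IsLocalRing R] [IsNoetherianRing R] {t : R}
    (ht : maximalIdeal R = Ideal.span {t}) (hreg : ∀ x, t * x = 0 → x = 0) : IsDomain R := by
  have hkey : ∀ x : R, x ≠ 0 → ∃ (n : ℕ) (v : R), IsUnit v ∧ x = t ^ n * v := by
    intro x hx
    have hI : ∃ n, x ∉ maximalIdeal R ^ n := by
      by_contra h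
      push_neg at h
      refine hx ?_
      have h0 := Ideal.iInf_pow_eq_bot_of_isLocalRing (maximalIdeal R) (maximalIdeal.isMaximal R).ne_top
      rw [← Ideal.mem_bot, ← h0]
      exact Ideal.mem_iInf.2 h
    classical
    obtain ⟨n, hn⟩ : ∃ n, Nat.find hI = n + 1 := ⟨Nat.find hI - 1, by
      have : Nat.find hI ≠ 0 := fun h => by
        have := Nat.find_spec hI
        rw [h, pow_zero, Ideal.one_eq_top] at this
        exact this trivial
      omega⟩
    have h1 : x ∈ maximalIdeal R ^ n := by
      by_contra h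
      have := Nat.find_min' hI h
      omega
    have h2 : x ∉ maximalIdeal R ^ (n + 1) := hn ▸ Nat.find_spec hI
    rw [ht, Ideal.span_singleton_pow, Ideal.mem_span_singleton] at h1
    obtain ⟨v, rfl⟩ := h1
    refine ⟨n, v, ?_, rfl⟩
    by_contra hv
    refine h2 ?_
    rw [pow_succ]
    exact Ideal.mul_mem_mul (Ideal.pow_mem_pow (ht ▸ Ideal.mem_span_singleton_self t) n)
      ((mem_maximalIdeal v).2 hv)
  have hpow : ∀ (n : ℕ) (x : R), t ^ n * x = 0 → x = 0 := fun n => by
    induction n with
    | zero => simp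
    | succ n ih => exact fun x hx => ih x (hreg _ (by rw [← hx]; ring))
  refine @NoZeroDivisors.to_isDomain R _ _ ⟨fun {x y} hxy => ?_⟩
  by_contra h
  push_neg at h
  obtain ⟨n, v, hv, rfl⟩ := hkey x h.1
  obtain ⟨m, w, hw, rfl⟩ := hkey y h.2
  have := hpow (n + m) (v * w) (by rw [← hxy]; ring)
  exact (hv.mul hw).ne_zero this

section main

variable (A B : Type u) [CommRing A] [IsDomain A] [IsDiscreteValuationRing A] [CommRing B] [Algebra A B]
  [Module.Finite A B]

theorem comap_eq_maximalIdeal (m : Ideal B) [m.IsMaximal] : m.comap (algebraMap A B) = maximalIdeal A :=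
  IsLocalRing.eq_maximalIdeal (Ideal.isMaximal_comap_of_isIntegral_of_isMaximal m)

theorem maximalIdeal_localization [Algebra.FormallyUnramified A B] (ϖ : A) (hϖ : Irreducible ϖ) (m : Ideal B)
    [m.IsMaximal] :
    maximalIdeal (Localization.AtPrime m) = Ideal.span {algebraMap A (Localization.AtPrime m) ϖ} := by
  haveI : IsLocalHom (algebraMap A (Localization.AtPrime m)) := ⟨fun a ha => by
    by_contra h
    rw [IsScalarTower.algebraMap_apply A B (Localization.AtPrime m), IsLocalization.AtPrime.isUnit_to_map_iff _ m] at ha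
    exact ha (show algebraMap A B a ∈ m from
      (comap_eq_maximalIdeal A B m ▸ (IsLocalRing.mem_maximalIdeal a).2 h : a ∈ m.comap (algebraMap A B)))⟩
  haveI : Algebra.EssFiniteType B (Localization.AtPrime m) := .of_isLocalization _ m.primeCompl
  haveI : Algebra.EssFiniteType A (Localization.AtPrime m) := .comp A B _
  haveI : Algebra.FormallyUnramified A (Localization.AtPrime m) :=
    inferInstanceAs (Algebra.FormallyUnramified A (Localization m.primeCompl))
  rw [← Algebra.FormallyUnramified.map_maximalIdeal (R := A), hϖ.maximalIdeal_eq, Ideal.map_span, Set.image_singleton]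

theorem exists_pid_prod [Algebra.Etale A B] :
    ∃ (κ : Type u) (D : κ → Type u) (_ : ∀ i, CommRing (D i)) (_ : ∀ i, IsDomain (D i))
      (_ : ∀ i, IsPrincipalIdealRing (D i)), Nonempty (B ≃+* ∀ i, D i) := by
  classical
  obtain ⟨ϖ, hϖ⟩ := IsDiscreteValuationRing.exists_irreducible A
  haveI : IsNoetherianRing B := IsNoetherianRing.of_finite A B
  haveI : Module.Flat A B := inferInstance
  have hreg : ∀ (C : Type u) [CommRing C] [Algebra A C] [Module.Flat A C], IsSMulRegular C ϖ := fun C _ _ _ =>
    Module.Flat.isSMulRegular_of_isRegular (IsRegular.of_ne_zero hϖ.ne_zero)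
  have hdom : ∀ (m : Ideal B) [m.IsMaximal], IsDomain (Localization.AtPrime m) := fun m _ => by
    haveI : IsNoetherianRing (Localization.AtPrime m) := IsLocalization.isNoetherianRing m.primeCompl _ inferInstance
    haveI : Module.Flat A (Localization.AtPrime m) := Module.Flat.trans A B _
    refine isDomain_of_maximalIdeal_span (maximalIdeal_localization A B ϖ hϖ m) fun x hx => ?_
    refine hreg (Localization.AtPrime m) ?_
    show ϖ • x = ϖ • (0 : Localization.AtPrime m)
    rw [Algebra.smul_def, hx, smul_zero]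
  let κ : Type u := minimalPrimes B
  haveI : Fintype κ := (minimalPrimes.finite_of_isNoetherianRing B).fintype
  haveI hprime : ∀ p : κ, p.1.IsPrime := fun p => p.2.1.1
  have hker : ∀ (p : κ) (m : Ideal B) [m.IsMaximal], p.1 ≤ m →
      p.1 = RingHom.ker (algebraMap B (Localization.AtPrime m)) := fun p m _ hle => by
    haveI := hdom m
    have hle' : RingHom.ker (algebraMap B (Localization.AtPrime m)) ≤ p.1 := fun x hx => by
      obtain ⟨s, hs⟩ := (IsLocalization.map_eq_zero_iff m.primeCompl (Localization.AtPrime m) x).1 hx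
      exact (Ideal.IsPrime.mem_or_mem (hprime p) (hs ▸ p.1.zero_mem : (s : B) * x ∈ p.1)).resolve_left
        fun h => s.2 (hle h)
    exact le_antisymm (p.2.2 ⟨RingHom.ker_isPrime _, bot_le⟩ hle') hle'
  have hco : Pairwise (fun p q : κ => IsCoprime p.1 q.1) := fun p q hpq => by
    refine Ideal.isCoprime_iff_sup_eq.2 ?_
    by_contra h
    obtain ⟨m, hm, hle⟩ := Ideal.exists_le_maximal _ h
    exact hpq (Subtype.ext ((hker p m (le_sup_left.trans hle)).trans (hker q m (le_sup_right.trans hle)).symm))
  have hinf : (⨅ p : κ, p.1) = (⊥ : Ideal B) := by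
    refine eq_bot_iff.2 fun x hx => ?_
    refine eq_zero_of_localization x fun m hm => ?_
    obtain ⟨p, hp, hle⟩ := Ideal.exists_minimalPrimes_le (bot_le : (⊥ : Ideal B) ≤ m)
    exact (hker ⟨p, hp⟩ m hle).le ((iInf_le _ (⟨p, hp⟩ : κ) : _ ≤ p) hx)
  have hpid : ∀ p : κ, IsPrincipalIdealRing (B ⧸ p.1) := fun p => by
    haveI : Module.Finite A (B ⧸ p.1) := inferInstance
    haveI : Algebra.FormallyUnramified A (B ⧸ p.1) :=
      .of_surjective (Ideal.Quotient.mkₐ A p.1) Ideal.Quotient.mk_surjective
    haveI : IsNoetherianRing (B ⧸ p.1) := inferInstance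
    have hne : algebraMap A (B ⧸ p.1) ϖ ≠ 0 := fun h => by
      rw [IsScalarTower.algebraMap_apply A B (B ⧸ p.1), Ideal.Quotient.algebraMap_eq, Ideal.Quotient.eq_zero_iff_mem] at h
      exact (Ideal.disjoint_nonZeroDivisors_of_mem_minimalPrimes p.2).ne_of_mem h
        (mem_nonZeroDivisors_iff_right.2 fun x hx => (hreg B) (by
          show ϖ • x = ϖ • (0 : B)
          rw [Algebra.smul_def, mul_comm, hx, smul_zero])) rfl
    have hinj : Function.Injective (algebraMap A (B ⧸ p.1)) := by
      rw [RingHom.injective_iff_ker_eq_bot]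
      by_contra hbot
      obtain ⟨n, hn⟩ := IsDiscreteValuationRing.ideal_eq_span_pow_irreducible hbot hϖ
      have h : ϖ ^ n ∈ RingHom.ker (algebraMap A (B ⧸ p.1)) := hn ▸ Ideal.mem_span_singleton_self _
      rw [RingHom.mem_ker, map_pow] at h
      exact hne (pow_eq_zero_iff'.1 h).1
    have hmax : ∀ P : Ideal (B ⧸ p.1), P ≠ ⊥ → P.IsPrime → P.IsMaximal ∧ algebraMap A (B ⧸ p.1) ϖ ∈ P := fun P hP hP' => by
      have hc : P.comap (algebraMap A (B ⧸ p.1)) ≠ ⊥ := fun h => hP (Ideal.eq_bot_of_comap_eq_bot h)
      haveI : (P.comap (algebraMap A (B ⧸ p.1))).IsMaximal := Ideal.IsPrime.isMaximal inferInstance hc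
      exact ⟨Ideal.isMaximal_of_isIntegral_of_isMaximal_comap P ‹_›,
        (show ϖ ∈ P.comap (algebraMap A (B ⧸ p.1)) by
          rw [IsLocalRing.eq_maximalIdeal ‹(P.comap _).IsMaximal›, hϖ.maximalIdeal_eq]
          exact Ideal.mem_span_singleton_self ϖ)⟩
    haveI : IsDedekindDomainDvr (B ⧸ p.1) :=
      { is_dvr_at_nonzero_prime := fun P hP hP' => by
          haveI := (hmax P hP hP').1
          haveI : IsNoetherianRing (Localization.AtPrime P) :=
            IsLocalization.isNoetherianRing P.primeCompl _ inferInstance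
          have hne' : algebraMap A (Localization.AtPrime P) ϖ ≠ 0 := by
            rw [IsScalarTower.algebraMap_apply A (B ⧸ p.1) (Localization.AtPrime P), ← map_zero (algebraMap (B ⧸ p.1) _)]
            exact fun h => hne (IsLocalization.injective _ P.primeCompl_le_nonZeroDivisors h)
          have hm := maximalIdeal_localization A (B ⧸ p.1) ϖ hϖ P
          have hnf : ¬ IsField (Localization.AtPrime P) := by
            rw [IsLocalRing.isField_iff_maximalIdeal_eq, hm, Ideal.span_singleton_eq_bot]
            exact hne'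
          exact ((IsDiscreteValuationRing.TFAE _ hnf).out 0 4 rfl rfl).2 ⟨⟨_, hm⟩⟩ }
    haveI : IsDedekindDomain (B ⧸ p.1) := inferInstance
    refine IsPrincipalIdealRing.of_finite_primes ?_
    refine ((Ideal.finite_minimalPrimes_of_isNoetherianRing _
      (Ideal.span {algebraMap A (B ⧸ p.1) ϖ})).insert ⊥).subset fun P hP => ?_
    by_cases hP0 : P = ⊥
    · exact Or.inl hP0
    obtain ⟨-, hmem⟩ := hmax P hP0 hP
    refine Or.inr ⟨⟨hP, (Ideal.span_singleton_le_iff_mem _).2 hmem⟩, fun Q hQ hQP => ?_⟩
    have hQ0 : Q ≠ ⊥ := fun h => hne (by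
      have := hQ.2 (Ideal.mem_span_singleton_self _)
      rwa [h, Ideal.mem_bot] at this)
    exact ((hmax Q hQ0 hQ.1).1.eq_of_le hP.ne_top hQP).ge
  refine ⟨κ, fun p => B ⧸ p.1, fun _ => inferInstance, fun _ => inferInstance, hpid, ⟨?_⟩⟩
  exact (RingEquiv.quotientBot B).symm.trans ((Ideal.quotEquivOfEq hinf.symm).trans
    (Ideal.quotientInfRingEquivPiQuotient _ hco))

end main

end DualNormLib
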