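import Groth.Agent.BigCohLib.Lift
import Groth.Prelude.Def_CGrpSh3

/-!
# Extension by zero of sections along clopen subobjects, and evaluation of morphisms of restricted sheaves
-/

set_option autoImplicit false
set_option linter.style.haveILetI false
set_option maxHeartbeats 1000000
universe u

open CategoryTheory CategoryTheory.Limits AlgebraicGeometry Opposite
open AdeqLib AdeqModLib

noncomputable section

namespace DualNormLib

variable {S : Scheme.{u}} {F G : BigSite.Ab Scheme.fppfPrecoverage S}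

/-- Restriction of sections. -/
abbrev res (F : BigSite.Ab Scheme.fppfPrecoverage S) {U V : Over S} (h : U ⟶ V) :
    F.obj.obj (op V) →+ F.obj.obj (op U) := (F.obj.map h.op).hom

theorem res_res {U V W : Over S} (a : U ⟶ V) (b : V ⟶ W) (x : F.obj.obj (op W)) :
    res F a (res F b x) = res F (a ≫ b) x := by
  show (F.obj.map b.op ≫ F.obj.map a.op) x = F.obj.map (a ≫ b).op x
  rw [← F.obj.map_comp]; rfl

theorem res_id {U : Over S} (x : F.obj.obj (op U)) : res F (𝟙 U) x = x :=
  ConcreteCategory.congr_hom (F.obj.map_id (op U)) x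

theorem eq_zero_of_isEmpty {U : Over S} [IsEmpty U.left] (x : F.obj.obj (op U)) : x = 0 :=
  (BigCohLib.p_subsingleton F.property).elim _ _

theorem eq_zero_of_cover {U : Over S} {κ : Type*} {Y : κ → Over S} (g : ∀ k, Y k ⟶ U)
    (hs : ∀ y : U.left, ∃ k, y ∈ Set.range (g k).left) (hf : ∀ k, Flat (g k).left ∧ LocallyOfFinitePresentation (g k).left)
    (x : F.obj.obj (op U)) (hx : ∀ k, res F (g k) x = 0) : x = 0 :=
  BigCohLib.p_eq_zero F.property g (ofArrows_mem _ ((Scheme.ofArrows_mem_precoverage_iff _).2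
    ⟨fun y => (hs y).imp fun _ => fun ⟨z, hz⟩ => ⟨z, hz⟩, fun k => hf k⟩)) x hx

/-- An open as an object over the base. -/
abbrev sub {P : Over S} (W : P.left.Opens) : Over S := Over.mk (W.ι ≫ P.hom)

/-- The inclusion of an open. -/
abbrev subι {P : Over S} (W : P.left.Opens) : sub W ⟶ P := Over.homMk W.ι rfl

instance {P : Over S} (W : P.left.Opens) : IsOpenImmersion (subι W).left :=
  inferInstanceAs (IsOpenImmersion W.ι)

/-- The arrow avoids the range of `i`. -/
def Avoids {D P T : Over S} (t : T ⟶ P) (i : D ⟶ P) : Prop := ∀ y, t.left y ∉ Set.range i.left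

/-- `r` is the extension by zero of `x` along `i`. -/
structure IsExt (F : BigSite.Ab Scheme.fppfPrecoverage S) {D P : Over S} (i : D ⟶ P) (x : F.obj.obj (op D))
    (r : F.obj.obj (op P)) : Prop where
  res_eq : res F i r = x
  avoid : ∀ (T : Over S) (t : T ⟶ P), Avoids t i → res F t r = 0

variable {D P : Over S} (i : D ⟶ P) [IsOpenImmersion i.left]

theorem cancel_left {Z : Over S} {a b : Z ⟶ D} (h : a ≫ i = b ≫ i) : a = b :=
  Over.OverMorphism.ext ((cancel_mono i.left).1 (congrArg CommaMorphism.left h))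

theorem exists_lift {T : Over S} (t : T ⟶ P) (h : ∀ y, t.left y ∈ Set.range i.left) : ∃ a : T ⟶ D, a ≫ i = t := by
  have hr : Set.range t.left ⊆ Set.range i.left := by rintro _ ⟨y, rfl⟩; exact h y
  have he := IsOpenImmersion.lift_fac i.left t.left hr
  refine ⟨Over.homMk (IsOpenImmersion.lift i.left t.left hr) ?_, Over.OverMorphism.ext he⟩
  rw [← Over.w i, reassoc_of% he]
  exact Over.w t

variable {i}

theorem eq_zero_of_res (hc : IsClosed (Set.range i.left)) (r : F.obj.obj (op P)) (h₁ : res F i r = 0)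
    (h₂ : ∀ (T : Over S) (t : T ⟶ P), Avoids t i → res F t r = 0) : r = 0 := by
  let c : P.left.Opens := ⟨(Set.range i.left)ᶜ, hc.isOpen_compl⟩
  let g : ∀ k : Bool, cond k D (sub c) ⟶ P := fun k => match k with
    | true => i
    | false => subι c
  refine eq_zero_of_cover g (fun y => ?_) (fun k => ?_) r fun k => ?_
  · by_cases hy : y ∈ Set.range i.left
    · exact ⟨true, hy⟩
    · exact ⟨false, ⟨y, hy⟩, rfl⟩
  · cases k
    · exact ⟨(inferInstance : Flat c.ι), (inferInstance : LocallyOfFinitePresentation c.ι)⟩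
    · exact ⟨(inferInstance : Flat i.left), (inferInstance : LocallyOfFinitePresentation i.left)⟩
  · cases k
    · exact h₂ _ (subι c) fun y => y.2
    · exact h₁

theorem IsExt.unique (hc : IsClosed (Set.range i.left)) {x : F.obj.obj (op D)} {r r' : F.obj.obj (op P)}
    (h : IsExt F i x r) (h' : IsExt F i x r') : r = r' :=
  sub_eq_zero.1 (eq_zero_of_res hc _ (by rw [map_sub, h.res_eq, h'.res_eq, sub_self])
    fun T t ht => by rw [map_sub, h.avoid T t ht, h'.avoid T t ht, sub_self])

theorem exists_isExt (F : BigSite.Ab Scheme.fppfPrecoverage S) (hc : IsClosed (Set.range i.left))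
    (x : F.obj.obj (op D)) : ∃ r, IsExt F i x r := by
  let c : P.left.Opens := ⟨(Set.range i.left)ᶜ, hc.isOpen_compl⟩
  let g : ∀ k : Bool, cond k D (sub c) ⟶ P := fun k => match k with
    | true => i
    | false => subι c
  have hcov : Sieve.ofArrows (fun k : Bool => cond k D (sub c)) g ∈ QuotSh.J Scheme.fppfPrecoverage S P := by
    refine ofArrows_mem _ ((Scheme.ofArrows_mem_precoverage_iff _).2 ⟨fun y => ?_, fun k => ?_⟩)
    · by_cases hy : y ∈ Set.range i.left
      · obtain ⟨z, hz⟩ := hy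
        exact ⟨true, z, hz⟩
      · exact ⟨false, ⟨y, hy⟩, rfl⟩
    · cases k
      · exact ⟨(inferInstance : Flat c.ι), (inferInstance : LocallyOfFinitePresentation c.ι)⟩
      · exact ⟨(inferInstance : Flat i.left), (inferInstance : LocallyOfFinitePresentation i.left)⟩
  have hne : ∀ (Z : Over S) (a : Z ⟶ D) (b : Z ⟶ sub c), a ≫ i = b ≫ subι c → IsEmpty Z.left := fun Z a b e =>
    ⟨fun z => (b.left z).2 ⟨a.left z, congrArg (fun k : Z ⟶ P => k.left z) e⟩⟩
  let s : ∀ k : Bool, F.obj.obj (op (cond k D (sub c))) := fun k => match k with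
    | true => x
    | false => 0
  obtain ⟨r, hr⟩ := BigCohLib.p_glue F.property g hcov s fun k l Z a b e => by
    cases k <;> cases l
    · exact (map_zero (res F a)).trans (map_zero (res F b)).symm
    · haveI := hne Z b a e.symm
      exact (eq_zero_of_isEmpty _).trans (eq_zero_of_isEmpty _).symm
    · haveI := hne Z a b e
      exact (eq_zero_of_isEmpty _).trans (eq_zero_of_isEmpty _).symm
    · have hab : a = b := cancel_left i e
      subst hab
      rfl
  refine ⟨r, hr true, fun T t ht => ?_⟩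
  obtain ⟨a, rfl⟩ : ∃ a, a ≫ subι c = t := exists_lift (subι c) t fun y => ⟨⟨t.left y, ht y⟩, rfl⟩
  rw [← res_res]
  exact (congrArg (res F a) (hr false)).trans (map_zero _)

/-- The extension by zero. -/
def ext0 (F : BigSite.Ab Scheme.fppfPrecoverage S) (i : D ⟶ P) [IsOpenImmersion i.left]
    (hc : IsClosed (Set.range i.left)) (x : F.obj.obj (op D)) : F.obj.obj (op P) :=
  (exists_isExt F hc x).choose

theorem isExt_ext0 (hc : IsClosed (Set.range i.left)) (x : F.obj.obj (op D)) : IsExt F i x (ext0 F i hc x) :=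
  (exists_isExt F hc x).choose_spec

omit [IsOpenImmersion i.left] in
theorem IsExt.add {x x' : F.obj.obj (op D)} {r r' : F.obj.obj (op P)} (h : IsExt F i x r) (h' : IsExt F i x' r') :
    IsExt F i (x + x') (r + r') :=
  ⟨by rw [map_add, h.res_eq, h'.res_eq], fun T t ht => by rw [map_add, h.avoid T t ht, h'.avoid T t ht, add_zero]⟩

omit [IsOpenImmersion i.left] in
theorem IsExt.pull {D' P' : Over S} {i' : D' ⟶ P'} {g : P' ⟶ P} {h : D' ⟶ D} (w : h ≫ i = i' ≫ g)
    (hr : ∀ p, g.left p ∈ Set.range i.left → p ∈ Set.range i'.left) {x : F.obj.obj (op D)} {r : F.obj.obj (op P)}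
    (hx : IsExt F i x r) : IsExt F i' (res F h x) (res F g r) :=
  ⟨by rw [res_res, ← w, ← res_res, hx.res_eq], fun T t ht => by
    rw [res_res]
    exact hx.avoid T _ fun y hy => ht y (hr _ hy)⟩

/-- Sections over the domain of an open immersion determined by the range. -/
theorem res_eq_zero_of_range {T : Over S} (t : T ⟶ P) (h : ∀ y, t.left y ∈ Set.range i.left)
    {r : F.obj.obj (op P)} (hr : res F i r = 0) : res F t r = 0 := by
  obtain ⟨a, rfl⟩ := exists_lift i t h
  rw [← res_res, hr, map_zero]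

section ev

variable {T : Over S}

/-- Evaluation of a morphism of restricted sheaves. -/
def ev (φ : F.over T ⟶ G.over T) {W : Over S} (g : W ⟶ T) : F.obj.obj (op W) →+ G.obj.obj (op W) :=
  (φ.hom.app (op (Over.mk g))).hom

theorem ev_res (φ : F.over T ⟶ G.over T) {W' W : Over S} (h : W' ⟶ W) (g : W ⟶ T) (x : F.obj.obj (op W)) :
    ev φ (h ≫ g) (res F h x) = res G h (ev φ g x) :=
  NatTrans.naturality_apply φ.hom (Over.homMk h rfl : Over.mk (h ≫ g) ⟶ Over.mk g).op x

theorem ev_hom_ext {φ φ' : F.over T ⟶ G.over T}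
    (h : ∀ (W : Over S) (g : W ⟶ T) (x : F.obj.obj (op W)), ev φ g x = ev φ' g x) : φ = φ' :=
  Sheaf.hom_ext (NatTrans.ext (funext fun U => AddCommGrpCat.ext fun x => h U.unop.left U.unop.hom x))

/-- A morphism of restricted sheaves from its evaluations. -/
def mkEv (e : ∀ (W : Over S) (_ : W ⟶ T), F.obj.obj (op W) →+ G.obj.obj (op W))
    (h : ∀ (W' W : Over S) (k : W' ⟶ W) (g : W ⟶ T) (g' : W' ⟶ T), k ≫ g = g' → ∀ x : F.obj.obj (op W),
      e W' g' (res F k x) = res G k (e W g x)) : F.over T ⟶ G.over T :=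
  ⟨{ app := fun U => AddCommGrpCat.ofHom (e U.unop.left U.unop.hom)
     naturality := fun U U' m => AddCommGrpCat.ext fun x =>
      h U'.unop.left U.unop.left m.unop.left U.unop.hom U'.unop.hom (Over.w m.unop) x }⟩

theorem ev_mkEv (e : ∀ (W : Over S) (_ : W ⟶ T), F.obj.obj (op W) →+ G.obj.obj (op W))
    (h : ∀ (W' W : Over S) (k : W' ⟶ W) (g : W ⟶ T) (g' : W' ⟶ T), k ≫ g = g' → ∀ x : F.obj.obj (op W),
      e W' g' (res F k x) = res G k (e W g x))
    {W : Over S} (g : W ⟶ T) (x : F.obj.obj (op W)) : ev (mkEv e h) g x = e W g x := rfl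

omit [IsOpenImmersion i.left] in
theorem IsExt.map_ev (φ : F.over T ⟶ G.over T) (k : P ⟶ T) {x : F.obj.obj (op D)} {r : F.obj.obj (op P)}
    (h : IsExt F i x r) : IsExt G i (ev φ (i ≫ k) x) (ev φ k r) :=
  ⟨by rw [← ev_res, h.res_eq], fun W t ht => by rw [← ev_res, h.avoid W t ht, map_zero]⟩

end ev

end DualNormLib
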