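import Groth.Agent.GmExtLib.Line
import Groth.Agent.GmExtLib.FieldLift
import Groth.Agent.GmExtLib.Poly
import Groth.Agent.GmVanishLib.Laurent
import Groth.Agent.LineRigidLib.Basic

/-!
# Extensions of the multiplicative group by itself over a field
-/

set_option autoImplicit false
set_option maxHeartbeats 1600000
universe u

open CategoryTheory CategoryTheory.Limits AlgebraicGeometry Opposite MonObj MonoidalCategory CartesianMonoidalCategory
open AdeqLib AdeqModLib GmExtLib
open Groth.Agent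

noncomputable section

namespace DualNormLib

variable (A : CommRingCat.{u})

/-- Laurent polynomials over the base. -/
abbrev L₁ : Type u := LaurentPolynomial A

/-- Laurent polynomials in two variables over the base. -/
abbrev L₂ : Type u := LaurentPolynomial (LaurentPolynomial A)

/-- The coordinate. -/
def tu (R : Type u) [CommRing R] : (LaurentPolynomial R)ˣ := GmVanishLib.Tu R

theorem tu_val (R : Type u) [CommRing R] : (tu R : LaurentPolynomial R) = LaurentPolynomial.T 1 := GmVanishLib.val_Tu R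

/-- The first coordinate of the torus. -/
def cx : (L₂ A)ˣ := Units.map (LaurentPolynomial.C : L₁ A →+* L₂ A).toMonoidHom (tu A)

/-- The second coordinate of the torus. -/
def cy : (L₂ A)ˣ := tu (L₁ A)

theorem ghom_gmFn {S : Scheme.{u}} {A : CommRingCat.{u}} (b : Spec A ⟶ S) {Z : Over S} {C : Type u} [CommRing C]
    [Algebra A C] (e : Z ⟶ ao b C) (v : Cˣ) : Red.gmFn (e ≫ gmP b C v) = e.left.appTop (fn b C v) := by
  rw [GmPts.gmFn_comp, gmFn_gmP]

theorem exists_ev_gm₁ {Z : Over (Spec A)} (t : Z ⟶ Red.Gm (Spec A)) :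
    ∃ e : Z ⟶ ao (𝟙 (Spec A)) (L₁ A), e ≫ gmP _ _ (tu A) = t := by
  obtain ⟨e, he⟩ := exists_toAo (𝟙 (Spec A)) (toTop A Z) (C := L₁ A)
    (LaurentPolynomial.eval₂ (ghom (𝟙 (Spec A)) (toTop A Z)) (GmPts.unitOfPt t)) fun r => by
      rw [show algebraMap A (L₁ A) r = LaurentPolynomial.C r from rfl, LaurentPolynomial.eval₂_C]
  refine ⟨e, GmPts.gmFn_injective ?_⟩
  show Red.gmFn _ = Red.gmFn _
  rw [ghom_gmFn, he, tu_val, GmVanishLib.eval₂_T_one, GmPts.val_unitOfPt]

theorem exists_ev_gm₂ {Z : Over (Spec A)} (t₁ t₂ : Z ⟶ Red.Gm (Spec A)) :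
    ∃ e : Z ⟶ ao (𝟙 (Spec A)) (L₂ A), e ≫ gmP _ _ (cx A) = t₁ ∧ e ≫ gmP _ _ (cy A) = t₂ := by
  obtain ⟨e, he⟩ := exists_toAo (𝟙 (Spec A)) (toTop A Z) (C := L₂ A)
    (LaurentPolynomial.eval₂ (LaurentPolynomial.eval₂ (ghom (𝟙 (Spec A)) (toTop A Z)) (GmPts.unitOfPt t₁))
      (GmPts.unitOfPt t₂)) fun r => by
      rw [show algebraMap A (L₂ A) r = LaurentPolynomial.C (LaurentPolynomial.C r) from rfl, LaurentPolynomial.eval₂_C,
        LaurentPolynomial.eval₂_C]
  refine ⟨e, GmPts.gmFn_injective ?_, GmPts.gmFn_injective ?_⟩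
  · show Red.gmFn _ = Red.gmFn _
    rw [ghom_gmFn, he, show ((cx A : (L₂ A)ˣ) : L₂ A) = LaurentPolynomial.C (tu A : L₁ A) from rfl,
      LaurentPolynomial.eval₂_C, tu_val, GmVanishLib.eval₂_T_one, GmPts.val_unitOfPt]
  · show Red.gmFn _ = Red.gmFn _
    rw [ghom_gmFn, he, show ((cy A : (L₂ A)ˣ) : L₂ A) = LaurentPolynomial.T 1 from tu_val _,
      GmVanishLib.eval₂_T_one, GmPts.val_unitOfPt]

theorem C_mul_T_eq_one {R : Type u} [CommRing R] [Nontrivial R] {c : R} {m : ℤ}
    (h : LaurentPolynomial.C c * LaurentPolynomial.T m = 1) : c = 1 ∧ m = 0 := by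
  have h0 := congrArg (fun p : LaurentPolynomial R => p.coeff 0) h
  have h1 : (1 : LaurentPolynomial R) = LaurentPolynomial.C 1 * LaurentPolynomial.T 0 := by simp
  simp only [h1, GmVanishLib.coeff_CT, if_true] at h0
  by_cases hm : m = 0
  · rw [if_pos hm] at h0
    exact ⟨h0, hm⟩
  · rw [if_neg hm] at h0
    exact absurd h0 zero_ne_one

/-- Over a field normalised symmetric cocycles on the multiplicative group are trivial. -/
theorem cocycle_gm_eq_one [IsDomain A] {c : Red.Gm (Spec A) ⊗ Red.Gm (Spec A) ⟶ Red.Gm (Spec A)} (hc : IsSymCoc c) : c = 1 := by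
  let b := 𝟙 (Spec A)
  obtain ⟨h, hh⟩ := exists_gmP b (L₂ A) (lift (gmP b _ (cx A)) (gmP b _ (cy A)) ≫ c)
  obtain ⟨e, h₁, h₂⟩ := exists_ev_gm₂ A (fst (Red.Gm (Spec A)) (Red.Gm (Spec A))) (snd _ _)
  suffices h1 : h = 1 by
    have hk := congrArg (e ≫ ·) hh
    rw [h1, gmP_one] at hk
    simp only [← Category.assoc, comp_lift, MonObj.comp_one] at hk
    rw [show e ≫ gmP b (L₂ A) (cx A) = fst _ _ from h₁, show e ≫ gmP b (L₂ A) (cy A) = snd _ _ from h₂, lift_fst_snd,
      Category.id_comp] at hk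
    exact hk.symm
  have key : ∀ φ : L₂ A →ₐ[A] L₁ A, Units.map φ.toRingHom.toMonoidHom (cx A) = 1 ∨ Units.map φ.toRingHom.toMonoidHom (cy A) = 1 →
      φ h = 1 := by
    intro φ hφ
    have hk := congrArg (amap b φ ≫ ·) hh
    simp only [← Category.assoc, comp_lift, amap_gmP] at hk
    have : gmP b (L₁ A) (Units.map φ.toRingHom.toMonoidHom h) = gmP b (L₁ A) 1 := by
      refine hk.trans ?_
      rw [gmP_one]
      rcases hφ with hφ | hφ <;> rw [hφ, gmP_one]
      · rw [hc.symm, hc.norm]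
      · rw [hc.norm]
    exact congrArg Units.val (gmP_injective b _ this)
  obtain ⟨a, n, ha, hn⟩ := LineRigidLib.exists_eq_C_mul_T_of_isUnit h.isUnit
  obtain ⟨r, m, -, hm⟩ := LineRigidLib.exists_eq_C_mul_T_of_isUnit ha
  subst hm
  let φx : L₂ A →ₐ[A] L₁ A :=
    ⟨LaurentPolynomial.eval₂ (RingHom.id (L₁ A)) 1, fun r => LaurentPolynomial.eval₂_C _ _ _⟩
  let φy : L₂ A →ₐ[A] L₁ A :=
    ⟨LaurentPolynomial.eval₂ ((LaurentPolynomial.C : A →+* L₁ A).comp (LaurentPolynomial.eval₂ (RingHom.id A) 1)) (tu A),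
      fun r => by
        show LaurentPolynomial.eval₂ _ _ (LaurentPolynomial.C (LaurentPolynomial.C r)) = LaurentPolynomial.C r
        rw [LaurentPolynomial.eval₂_C, RingHom.comp_apply, LaurentPolynomial.eval₂_C, RingHom.id_apply]⟩
  have e1 := key φx (Or.inr (Units.ext (by
    show LaurentPolynomial.eval₂ (RingHom.id (L₁ A)) 1 ((cy A : (L₂ A)ˣ) : L₂ A) = 1
    rw [show ((cy A : (L₂ A)ˣ) : L₂ A) = LaurentPolynomial.T 1 from tu_val _, GmVanishLib.eval₂_T_one, Units.val_one])))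
  have e2 := key φy (Or.inl (Units.ext (by
    show LaurentPolynomial.eval₂ _ (tu A) (LaurentPolynomial.C (tu A : L₁ A)) = 1
    rw [LaurentPolynomial.eval₂_C, RingHom.comp_apply, tu_val, GmVanishLib.eval₂_T_one, Units.val_one, map_one])))
  rw [hn] at e1 e2
  have e1' : LaurentPolynomial.C r * LaurentPolynomial.T m = 1 := by
    change LaurentPolynomial.eval₂ (RingHom.id (L₁ A)) 1 _ = 1 at e1
    rwa [LaurentPolynomial.eval₂_C_mul_T, one_zpow, Units.val_one, _root_.mul_one, RingHom.id_apply] at e1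
  obtain ⟨rfl, rfl⟩ := C_mul_T_eq_one e1'
  simp only [map_one, LaurentPolynomial.T_zero, _root_.one_mul] at e2 hn
  have e2' : LaurentPolynomial.C (1 : A) * LaurentPolynomial.T n = 1 := by
    change LaurentPolynomial.eval₂ _ (tu A) _ = 1 at e2
    rw [LaurentPolynomial.eval₂_T] at e2
    rw [map_one, _root_.one_mul, ← e2]
    exact (LineRigidLib.unit_zpow_eq_T (tu A) (tu_val A) n).symm
  obtain ⟨-, rfl⟩ := C_mul_T_eq_one e2'
  exact Units.ext (hn.trans LaurentPolynomial.T_zero)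

/-- Extensions of the multiplicative group by itself over a field vanish. -/
theorem subsingleton_extS_gm_gm (k : Type u) [Field k] :
    Subsingleton (CGrpSh.ExtS Scheme.fppfPrecoverage (Red.Gm (Spec (CommRingCat.of k))) (Red.Gm (Spec (CommRingCat.of k))) 1) := by
  refine extS_subsingleton (fun P Q i g w hC σ _ => ?_)
    (fun c hc => ⟨1, fun T x y => by simp only [cocycle_gm_eq_one (CommRingCat.of k) hc, MonObj.comp_one, _root_.mul_one]⟩)
  let b := 𝟙 (Spec (CommRingCat.of k))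
  haveI : IsPrincipalIdealRing (L₁ (CommRingCat.of k)) := ⟨fun J => by
    obtain ⟨g, hg⟩ := (IsPrincipalIdealRing.principal
      (J.comap (algebraMap (Polynomial k) (LaurentPolynomial k)))).principal
    refine ⟨⟨algebraMap (Polynomial k) (LaurentPolynomial k) g, ?_⟩⟩
    have h := IsLocalization.map_comap (Submonoid.powers (Polynomial.X : Polynomial k)) (LaurentPolynomial k) J
    rw [show Ideal.under (Polynomial k) J = Ideal.span {g} from hg, Ideal.map_span, Set.image_singleton] at h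
    exact h.symm⟩
  obtain ⟨t, ht⟩ := exists_lift_of_pic (T := ao b (L₁ (CommRingCat.of k)))
    (fun M hM => pic_of_ufd (CommRingCat.of (L₁ (CommRingCat.of k))) M hM) hC
    (Q.obj.map (gmP b (L₁ (CommRingCat.of k)) (tu _)).op σ)
  obtain ⟨e, he⟩ := exists_ev_gm₁ (CommRingCat.of k) (𝟙 (Red.Gm (Spec (CommRingCat.of k))))
  refine ⟨P.obj.map e.op t, ?_⟩
  rw [NatTrans.naturality_apply g.hom e.op t, ht, ← ConcreteCategory.comp_apply, ← Functor.map_comp, ← op_comp, he, op_id]
  exact ConcreteCategory.congr_hom (Q.obj.map_id _) σ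

end DualNormLib
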