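import Groth.Agent.DualNormLib.GmExt
import Groth.Agent.PicHensLib.Basic
import Groth.Agent.InvCritLib.Basic
import Groth.Agent.GmExtLib.Inject
import Groth.Prelude.Def_CGrpSh2

/-!
# Extensions of the multiplicative group by itself over a reduced ring
-/

set_option autoImplicit false
set_option linter.style.haveILetI false
set_option maxHeartbeats 1600000
universe u

open CategoryTheory CategoryTheory.Limits AlgebraicGeometry Opposite MonObj MonoidalCategory CartesianMonoidalCategory
open AdeqLib AdeqModLib GmExtLib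
open Groth.Agent

noncomputable section

namespace DualNormLib

/-- Setting the second coordinate to one. -/
def ex (R : Type u) [CommRing R] : LaurentPolynomial (LaurentPolynomial R) →+* LaurentPolynomial R :=
  LaurentPolynomial.eval₂ (RingHom.id _) 1

/-- Setting the first coordinate to one. -/
def ey (R : Type u) [CommRing R] : LaurentPolynomial (LaurentPolynomial R) →+* LaurentPolynomial R :=
  LaurentPolynomial.eval₂ ((LaurentPolynomial.C : R →+* LaurentPolynomial R).comp
    (LaurentPolynomial.eval₂ (RingHom.id R) 1)) (tu R)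

/-- Change of coefficients. -/
def lmap {R R' : Type u} [CommRing R] [CommRing R'] (q : R →+* R') : LaurentPolynomial R →+* LaurentPolynomial R' :=
  AddMonoidAlgebra.mapRingHom ℤ q

theorem coeff_lmap {R R' : Type u} [CommRing R] [CommRing R'] (q : R →+* R') (p : LaurentPolynomial R) (n : ℤ) :
    (lmap q p).coeff n = q (p.coeff n) := by simp [lmap]

theorem lmap_C {R R' : Type u} [CommRing R] [CommRing R'] (q : R →+* R') (r : R) :
    lmap q (LaurentPolynomial.C r) = LaurentPolynomial.C (q r) :=
  LaurentPolynomial.ext fun n => by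
    rw [coeff_lmap, LaurentPolynomial.C_apply, LaurentPolynomial.C_apply]
    split_ifs <;> simp

theorem lmap_T {R R' : Type u} [CommRing R] [CommRing R'] (q : R →+* R') (k : ℤ) :
    lmap q (LaurentPolynomial.T k) = LaurentPolynomial.T k :=
  LaurentPolynomial.ext fun n => by
    rw [coeff_lmap, LaurentPolynomial.T_apply, LaurentPolynomial.T_apply]
    split_ifs <;> simp

theorem ex_lmap {R R' : Type u} [CommRing R] [CommRing R'] (q : R →+* R') :
    (ex R').comp (lmap (lmap q)) = (lmap q).comp (ex R) := by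
  refine GmVanishLib.lp_hom_ext (fun r => ?_) ?_
  · simp [ex, lmap_C, LaurentPolynomial.eval₂_C]
  · simp [ex, lmap_T, GmVanishLib.eval₂_T_one]

theorem ey_lmap {R R' : Type u} [CommRing R] [CommRing R'] (q : R →+* R') :
    (ey R').comp (lmap (lmap q)) = (lmap q).comp (ey R) := by
  refine GmVanishLib.lp_hom_ext (fun r => ?_) ?_
  · have h : ((LaurentPolynomial.eval₂ (RingHom.id R') 1).comp (lmap q)) =
        q.comp (LaurentPolynomial.eval₂ (RingHom.id R) 1) := by
      refine GmVanishLib.lp_hom_ext (fun r => ?_) ?_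
      · simp [lmap_C, LaurentPolynomial.eval₂_C]
      · simp [lmap_T, GmVanishLib.eval₂_T_one]
    simp only [ey, RingHom.comp_apply, lmap_C, LaurentPolynomial.eval₂_C]
    exact congrArg _ (RingHom.congr_fun h r)
  · simp [ey, lmap_T, GmVanishLib.eval₂_T_one, tu_val]

/-- A unit trivial on both axes is trivial, over a domain. -/
theorem eq_one_of_axes {D : Type u} [CommRing D] [IsDomain D] {h : LaurentPolynomial (LaurentPolynomial D)}
    (hu : IsUnit h) (e1 : ex D h = 1) (e2 : ey D h = 1) : h = 1 := by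
  obtain ⟨a, n, ha, hn⟩ := LineRigidLib.exists_eq_C_mul_T_of_isUnit hu
  obtain ⟨r, m, -, hm⟩ := LineRigidLib.exists_eq_C_mul_T_of_isUnit ha
  subst hm
  rw [hn] at e1 e2
  have e1' : LaurentPolynomial.C r * LaurentPolynomial.T m = 1 := by
    rwa [ex, LaurentPolynomial.eval₂_C_mul_T, one_zpow, Units.val_one, _root_.mul_one, RingHom.id_apply] at e1
  obtain ⟨rfl, rfl⟩ := C_mul_T_eq_one e1'
  simp only [map_one, LaurentPolynomial.T_zero, _root_.one_mul] at e2 hn
  have e2' : LaurentPolynomial.C (1 : D) * LaurentPolynomial.T n = 1 := by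
    rw [ey, LaurentPolynomial.eval₂_T] at e2
    rw [map_one, _root_.one_mul, ← e2]
    exact (LineRigidLib.unit_zpow_eq_T (tu D) (tu_val D) n).symm
  obtain ⟨-, rfl⟩ := C_mul_T_eq_one e2'
  exact hn.trans LaurentPolynomial.T_zero

theorem eq_one_of_axes_reduced {A : Type u} [CommRing A] [IsReduced A] {h : LaurentPolynomial (LaurentPolynomial A)}
    (hu : IsUnit h) (e1 : ex A h = 1) (e2 : ey A h = 1) : h = 1 := by
  refine LaurentPolynomial.ext fun n => LaurentPolynomial.ext fun m => sub_eq_zero.1 ?_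
  refine (nilpotent_iff_mem_prime.2 fun p hp => ?_).eq_zero
  haveI := hp
  let q := Ideal.Quotient.mk p
  have h1 : lmap (lmap q) h = 1 := eq_one_of_axes (hu.map _)
    ((RingHom.congr_fun (ex_lmap q) h).trans (by rw [RingHom.comp_apply, e1, map_one]))
    ((RingHom.congr_fun (ey_lmap q) h).trans (by rw [RingHom.comp_apply, e2, map_one]))
  rw [← Ideal.Quotient.eq_zero_iff_mem, map_sub, sub_eq_zero]
  have h2 := congrArg (fun z : LaurentPolynomial (LaurentPolynomial (A ⧸ p)) => (z.coeff n).coeff m) h1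
  have h3 := congrArg (fun z : LaurentPolynomial (LaurentPolynomial (A ⧸ p)) => (z.coeff n).coeff m)
    (map_one (lmap (lmap q))).symm
  simp only [coeff_lmap] at h2 h3
  exact h2.trans h3

variable (A : CommRingCat.{u})

/-- Over a reduced ring normalised symmetric cocycles on the multiplicative group are trivial. -/
theorem cocycle_gm_eq_one_reduced [IsReduced A] {c : Red.Gm (Spec A) ⊗ Red.Gm (Spec A) ⟶ Red.Gm (Spec A)}
    (hc : IsSymCoc c) : c = 1 := by
  let b := 𝟙 (Spec A)
  obtain ⟨h, hh⟩ := exists_gmP b (L₂ A) (lift (gmP b _ (cx A)) (gmP b _ (cy A)) ≫ c)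
  obtain ⟨e, h₁, h₂⟩ := exists_ev_gm₂ A (fst (Red.Gm (Spec A)) (Red.Gm (Spec A))) (snd _ _)
  suffices h1 : h = 1 by
    have hk := congrArg (e ≫ ·) hh
    rw [h1, gmP_one] at hk
    simp only [← Category.assoc, comp_lift, MonObj.comp_one] at hk
    rw [show e ≫ gmP b (L₂ A) (cx A) = fst _ _ from h₁, show e ≫ gmP b (L₂ A) (cy A) = snd _ _ from h₂, lift_fst_snd,
      Category.id_comp] at hk
    exact hk.symm
  have key : ∀ φ : L₂ A →ₐ[A] L₁ A, Units.map φ.toRingHom.toMonoidHom (cx A) = 1 ∨ Units.map φ.toRingHom.toMonoidHom (cy A) = 1 →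
      φ h = 1 := by
    intro φ hφ
    have hk := congrArg (amap b φ ≫ ·) hh
    simp only [← Category.assoc, comp_lift, amap_gmP] at hk
    have : gmP b (L₁ A) (Units.map φ.toRingHom.toMonoidHom h) = gmP b (L₁ A) 1 := by
      refine hk.trans ?_
      rw [gmP_one]
      rcases hφ with hφ | hφ <;> rw [hφ, gmP_one]
      · rw [hc.symm, hc.norm]
      · rw [hc.norm]
    exact congrArg Units.val (gmP_injective b _ this)
  refine Units.ext (eq_one_of_axes_reduced (A := A) h.isUnit ?_ ?_)
  · exact key ⟨ex A, fun r => by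
      show LaurentPolynomial.eval₂ _ _ (LaurentPolynomial.C (LaurentPolynomial.C r)) = LaurentPolynomial.C r
      rw [LaurentPolynomial.eval₂_C, RingHom.id_apply]⟩ (Or.inr (Units.ext (by
      show LaurentPolynomial.eval₂ (RingHom.id (L₁ A)) 1 ((cy A : (L₂ A)ˣ) : L₂ A) = 1
      rw [show ((cy A : (L₂ A)ˣ) : L₂ A) = LaurentPolynomial.T 1 from tu_val _, GmVanishLib.eval₂_T_one, Units.val_one])))
  · exact key ⟨ey A, fun r => by
      show LaurentPolynomial.eval₂ _ _ (LaurentPolynomial.C (LaurentPolynomial.C r)) = LaurentPolynomial.C r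
      rw [LaurentPolynomial.eval₂_C, RingHom.comp_apply, LaurentPolynomial.eval₂_C, RingHom.id_apply]⟩
      (Or.inl (Units.ext (by
      show LaurentPolynomial.eval₂ _ (tu A) (LaurentPolynomial.C (tu A : L₁ A)) = 1
      rw [LaurentPolynomial.eval₂_C, RingHom.comp_apply, tu_val, GmVanishLib.eval₂_T_one, Units.val_one, map_one])))

/-- Invertible sheaves on the spectrum of a ring with trivial Picard group. -/
theorem nonempty_iso_of_pic [Subsingleton (CommRing.Pic A)] (M : (Spec A).Modules) (hM : PicF.IsInvertible M) :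
    Nonempty (M ≅ Coh.structureModule (Spec A)) := by
  obtain ⟨P, _, _, hfin, hproj, hr, ⟨e⟩⟩ := PicHensLib.exists_module (T := (A : Type u)) M hM
  haveI := InvCritLib.invertible_of_rankAtStalk_one hr
  obtain ⟨φ⟩ := Module.Invertible.free_iff_linearEquiv.1 (inferInstance : Module.Free A P)
  exact ⟨e ≪≫ (tilde.functor (CommRingCat.of (A : Type u))).mapIso φ.toModuleIso ≪≫ tildeSelf⟩

/-- Extensions of the multiplicative group by itself vanish over a reduced ring. -/
theorem subsingleton_extS_gm_gm_reduced [IsReduced A] [Subsingleton (CommRing.Pic (LaurentPolynomial A))] :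
    Subsingleton (CGrpSh.ExtS Scheme.fppfPrecoverage (Red.Gm (Spec A)) (Red.Gm (Spec A)) 1) := by
  refine extS_subsingleton (fun P Q i g w hC σ _ => ?_)
    (fun c hc => ⟨1, fun T x y => by simp only [cocycle_gm_eq_one_reduced A hc, MonObj.comp_one, _root_.mul_one]⟩)
  let b := 𝟙 (Spec A)
  haveI : Subsingleton (CommRing.Pic (CommRingCat.of (L₁ A))) := ‹Subsingleton (CommRing.Pic (LaurentPolynomial A))›
  obtain ⟨t, ht⟩ := exists_lift_of_pic (T := ao b (L₁ A))
    (fun M hM => nonempty_iso_of_pic (CommRingCat.of (L₁ A)) M hM) hC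
    (Q.obj.map (gmP b (L₁ A) (tu _)).op σ)
  obtain ⟨e, he⟩ := exists_ev_gm₁ A (𝟙 (Red.Gm (Spec A)))
  refine ⟨P.obj.map e.op t, ?_⟩
  rw [NatTrans.naturality_apply g.hom e.op t, ht, ← ConcreteCategory.comp_apply, ← Functor.map_comp, ← op_comp, he, op_id]
  exact ConcreteCategory.congr_hom (Q.obj.map_id _) σ

/-- The first cohomology of the dual of the multiplicative group. -/
theorem subsingleton_H_one_dual_gm [IsReduced A] [Subsingleton (CommRing.Pic (LaurentPolynomial A))] :
    Subsingleton (BigSite.H Scheme.fppfPrecoverage (Spec A)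
      (CGrpSh2.dualSh Scheme.fppfPrecoverage (CGrpSh2.Gm Scheme.fppfPrecoverage (Spec A))) 1) :=
  GmExtLib.subsingleton_H_one_homSh _ _ (subsingleton_extS_gm_gm_reduced A)

end DualNormLib
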