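import Mathlib.AlgebraicGeometry.Morphisms.Finite
import Mathlib.AlgebraicGeometry.Noetherian
import Mathlib.FieldTheory.IsAlgClosed.AlgebraicClosure
import Mathlib.LinearAlgebra.Dimension.Constructions

/-!
# Bounds on the number of lifts of geometric points along finite morphisms
-/

set_option autoImplicit false
set_option linter.style.haveILetI false
set_option maxHeartbeats 1000000
universe u

open CategoryTheory CategoryTheory.Limits AlgebraicGeometry

noncomputable section

namespace DualNormLib

/-- Every geometric point has at most `n` lifts. -/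
def Bound (n : ℕ) {D U : Scheme.{u}} (p : D ⟶ U) : Prop :=
  ∀ (K : Type u) [Field K] [IsAlgClosed K] (z : Spec (CommRingCat.of K) ⟶ U)
    (s : Fin (n + 1) → (Spec (CommRingCat.of K) ⟶ D)), Function.Injective s → ¬ ∀ a, s a ≫ p = z

theorem Bound.isEmpty {D U : Scheme.{u}} {p : D ⟶ U} (h : Bound 0 p) : IsEmpty D :=
  ⟨fun d => by
    let a := Spec.map (CommRingCat.ofHom (algebraMap (D.residueField d) (AlgebraicClosure (D.residueField d)))) ≫
      D.fromSpecResidueField d
    exact h (AlgebraicClosure (D.residueField d)) (a ≫ p) (fun _ => a)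
      (fun i j _ => Fin.ext (by omega)) fun _ => rfl⟩

/-- Homomorphisms to a field agreeing on a subring over which the source is finitely generated are few. -/
theorem card_le_of_span {A B K : Type u} [CommRing A] [CommRing B] [Field K] [Algebra A B] (χ : A →+* K)
    (g : Finset B) (hg : Submodule.span A (g : Set B) = ⊤) {m : ℕ} (φ : Fin m → (B →+* K))
    (hφ : Function.Injective φ) (hχ : ∀ a x, φ a (algebraMap A B x) = χ x) : m ≤ g.card := by
  classical
  let v : Fin m → (g → K) := fun a l => φ a l
  have hli : LinearIndependent K v := by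
    rw [Fintype.linearIndependent_iff]
    intro c hc
    have h1 : ∀ b, ∑ a, c a * φ a b = 0 := by
      intro b
      have hb : b ∈ Submodule.span A (g : Set B) := by rw [hg]; trivial
      induction hb using Submodule.span_induction with
      | mem x hx =>
        have := congrFun hc ⟨x, hx⟩
        simpa [v, Finset.sum_apply] using this
      | zero => simp
      | add x y _ _ hx hy => simp [mul_add, Finset.sum_add_distrib, hx, hy]
      | smul r x _ hx =>
        rw [show ∑ a, c a * φ a (r • x) = χ r * ∑ a, c a * φ a x by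
          rw [Finset.mul_sum]
          exact Finset.sum_congr rfl fun a _ => by rw [Algebra.smul_def, map_mul, hχ]; ring, hx, mul_zero]
    have hmi : Function.Injective fun a => ((φ a : B →+* K) : B →* K) := fun a b h =>
      hφ (RingHom.ext fun x => DFunLike.congr_fun h x)
    refine Fintype.linearIndependent_iff.1 ((linearIndependent_monoidHom B K).comp _ hmi) c ?_
    funext b
    simpa [Finset.sum_apply] using h1 b
  simpa using hli.fintype_card_le_finrank

/-- A finite morphism to a quasi-compact scheme has boundedly many lifts of geometric points. -/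
theorem exists_bound {X X' : Scheme.{u}} (f : X' ⟶ X) [IsFinite f] [CompactSpace X] :
    ∃ n, 0 < n ∧ ∀ (K : Type u) [Field K] [IsAlgClosed K] (x : Spec (CommRingCat.of K) ⟶ X)
      (s : Fin (n + 1) → (Spec (CommRingCat.of K) ⟶ X')), Function.Injective s → ¬ ∀ a, s a ≫ f = x := by
  classical
  choose U hU hxU hUle using fun x : X => exists_isAffineOpen_mem_and_subset (x := x) (U := ⊤) trivial
  obtain ⟨t, ht⟩ := isCompact_univ.elim_finite_subcover (fun x => (U x : Set X)) (fun x => (U x).2)
    fun x _ => Set.mem_iUnion.2 ⟨x, hxU x⟩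
  have hgen : ∀ x : X, ∃ g : Finset Γ((f ⁻¹ᵁ U x : Scheme.{u}), ⊤),
      letI := (f ∣_ U x).appTop.hom.toAlgebra
      Submodule.span Γ((U x : Scheme.{u}), ⊤) (g : Set Γ((f ⁻¹ᵁ U x : Scheme.{u}), ⊤)) = ⊤ := fun x => by
    letI := (f ∣_ U x).appTop.hom.toAlgebra
    haveI : IsAffine (U x : Scheme.{u}) := hU x
    haveI : IsFinite (f ∣_ U x) :=
      MorphismProperty.of_isPullback (P := @IsFinite) (isPullback_morphismRestrict f (U x)).flip ‹IsFinite f›
    haveI : Module.Finite Γ((U x : Scheme.{u}), ⊤) Γ((f ⁻¹ᵁ U x : Scheme.{u}), ⊤) := (f ∣_ U x).finite_appTop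
    exact Module.Finite.fg_top
  choose g hg using hgen
  refine ⟨(∑ x ∈ t, (g x).card) + 1, Nat.succ_pos _, fun K _ _ x s hs hx => ?_⟩
  let pt : (Spec (CommRingCat.of K) : Scheme.{u}) := (⊥ : PrimeSpectrum K)
  obtain ⟨y, hyt, hy⟩ : ∃ y ∈ t, x pt ∈ U y := by simpa using Set.mem_iUnion₂.1 (ht (Set.mem_univ (x pt)))
  haveI : IsAffine (U y : Scheme.{u}) := hU y
  haveI : IsAffine (f ⁻¹ᵁ U y : Scheme.{u}) := (hU y).preimage f
  haveI : Subsingleton (Spec (CommRingCat.of K) : Scheme.{u}) := inferInstanceAs (Subsingleton (PrimeSpectrum K))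
  have hrx : Set.range x ⊆ Set.range (U y).ι := by
    rintro _ ⟨p, rfl⟩
    rw [Scheme.Opens.range_ι, Subsingleton.elim p pt]
    exact hy
  have hrs : ∀ a, Set.range (s a) ⊆ Set.range (f ⁻¹ᵁ U y).ι := fun a => by
    rintro _ ⟨p, rfl⟩
    rw [Scheme.Opens.range_ι, Subsingleton.elim p pt]
    show f (s a pt) ∈ U y
    rw [← Scheme.Hom.comp_apply, hx a]
    exact hy
  let x' := IsOpenImmersion.lift (U y).ι x hrx
  let s' := fun a => IsOpenImmersion.lift (f ⁻¹ᵁ U y).ι (s a) (hrs a)
  have hs' : ∀ a, s' a ≫ (f ∣_ U y) = x' := fun a => by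
    rw [← cancel_mono (U y).ι, Category.assoc, morphismRestrict_ι, IsOpenImmersion.lift_fac,
      IsOpenImmersion.lift_fac_assoc, hx a]
  letI := (f ∣_ U y).appTop.hom.toAlgebra
  let e := Scheme.ΓSpecIso (CommRingCat.of K)
  have hle := card_le_of_span (x'.appTop ≫ e.hom).hom (g y) (hg y)
    (fun a => ((s' a).appTop ≫ e.hom).hom) (fun a b hab => hs (by
      have h1 : (s' a).appTop = (s' b).appTop := (cancel_mono e.hom).1 (CommRingCat.hom_ext hab)
      rw [← IsOpenImmersion.lift_fac (f ⁻¹ᵁ U y).ι (s a) (hrs a), ← IsOpenImmersion.lift_fac (f ⁻¹ᵁ U y).ι (s b) (hrs b)]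
      exact congrArg (· ≫ (f ⁻¹ᵁ U y).ι) (ext_of_isAffine h1)))
    (fun a z => congr(e.hom ($(congrArg Scheme.Hom.appTop (hs' a)) z)))
  have := Finset.single_le_sum (f := fun x => (g x).card) (fun _ _ => Nat.zero_le _) hyt
  omega

end DualNormLib
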