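import Groth.Agent.DualNormLib.Norm
import Groth.Agent.DualNormLib.Lifts

/-!
# The norm map on dual sheaves along a finite etale morphism is an isomorphism
-/

set_option autoImplicit false
set_option backward.isDefEq.respectTransparency false
set_option linter.style.haveILetI false
set_option maxHeartbeats 1000000
universe u

open CategoryTheory CategoryTheory.Limits AlgebraicGeometry Opposite

noncomputable section

namespace DualNormLib

variable {X X' : Scheme.{u}} (f : X' ⟶ X) [IsFinite f] [Etale f]

/-- The adjoint of a morphism to a base change. -/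
def sym {V : Over X'} {T : Over X} (g : V ⟶ bc f T) : mo f V ⟶ T :=
  ((Over.mapPullbackAdj f).homEquiv V T).symm g

omit [IsFinite f] [Etale f] in
theorem eu_sym {V : Over X'} {T : Over X} (g : V ⟶ bc f T) : eu f V ≫ (Over.pullback f).map (sym f g) = g :=
  ((Over.mapPullbackAdj f).homEquiv_unit (f := sym f g)).symm.trans (Equiv.apply_symm_apply _ g)

omit [IsFinite f] [Etale f] in
theorem sym_comp {V' V : Over X'} {T : Over X} (h : V' ⟶ V) (g : V ⟶ bc f T) :
    (Over.map f).map h ≫ sym f g = sym f (h ≫ g) :=
  ((Over.mapPullbackAdj f).homEquiv_naturality_left_symm h g).symm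

omit [IsFinite f] [Etale f] in
theorem sym_eu {V : Over X'} {T : Over X} (k : mo f V ⟶ T) :
    sym f (eu f V ≫ (Over.pullback f).map k) = k := by
  rw [sym, ← Adjunction.homEquiv_unit]
  exact Equiv.symm_apply_apply _ k

omit [IsFinite f] [Etale f] in
theorem sym_left {V : Over X'} {T : Over X} (g : V ⟶ bc f T) :
    (sym f g).left = g.left ≫ pullback.fst T.hom f := by
  have h := congrArg CommaMorphism.left (eu_sym f g)
  refine Eq.trans ?_ (congrArg (· ≫ pullback.fst T.hom f) h)
  show _ = ((eu f V).left ≫ ((Over.pullback f).map (sym f g)).left) ≫ _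
  rw [Category.assoc, (Groth.Agent.NormGm.isPullback_prMap f (sym f g)).w.symm, ← Category.assoc]
  erw [eu_fst]
  rw [Category.id_comp]

variable (F : BigSite.Ab Scheme.fppfPrecoverage X')

/-- Extension by zero from the graph. -/
def extHom (V : Over X') : F.obj.obj (op V) →+ F.obj.obj (op (bc f (mo f V))) :=
  AddMonoidHom.mk' (fun x => ext0 F (eu f V) (isClosed_range_eu f V) x) fun x y =>
    IsExt.unique (isClosed_range_eu f V) (isExt_ext0 (isClosed_range_eu f V) _)
      ((isExt_ext0 (isClosed_range_eu f V) x).add (isExt_ext0 (isClosed_range_eu f V) y))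

theorem isExt_extHom (V : Over X') (x : F.obj.obj (op V)) : IsExt F (eu f V) x (extHom f F V x) :=
  isExt_ext0 (isClosed_range_eu f V) x

theorem extHom_res {V' V : Over X'} (h : V' ⟶ V) (x : F.obj.obj (op V)) :
    extHom f F V' (res F h x) = res F ((Over.pullback f).map ((Over.map f).map h)) (extHom f F V x) :=
  IsExt.unique (isClosed_range_eu f V') (isExt_extHom f F V' _)
    ((isExt_extHom f F V x).pull (eu_natural f h) (range_eu_preimage f h))

/-- The direct image. -/
abbrev RF : BigSite.Ab Scheme.fppfPrecoverage X :=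
  (BigSite.pushBig Scheme.fppfPrecoverage f AddCommGrpCat.{u + 1}).obj F

variable {T : Over X}

/-- Evaluation of a character of the direct image. -/
def evR (ψ : (RF f F).over T ⟶ (GmF X).over T) {U : Over X} (k : U ⟶ T) :
    F.obj.obj (op (bc f U)) →+ (GmF X).obj.obj (op U) := ev (F := RF f F) (G := GmF X) ψ k

omit [IsFinite f] [Etale f] in
theorem evR_res (ψ : (RF f F).over T ⟶ (GmF X).over T) {U' U : Over X} (h : U' ⟶ U) (k : U ⟶ T)
    (x : F.obj.obj (op (bc f U))) :
    evR f F ψ (h ≫ k) (res F ((Over.pullback f).map h) x) = res (GmF X) h (evR f F ψ k x) :=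
  ev_res (F := RF f F) (G := GmF X) ψ h k x

/-- The inverse construction. -/
def inv (ψ : (RF f F).over T ⟶ (GmF X).over T) : F.over (bc f T) ⟶ (GmF X').over (bc f T) :=
  mkEv (fun V g => (toX' f V).comp ((evR f F ψ (sym f g)).comp (extHom f F V)))
    fun V' V h g g' hg x => by
      subst hg
      show toX' f V' (evR f F ψ (sym f (h ≫ g)) (extHom f F V' (res F h x))) = _
      rw [extHom_res, ← sym_comp, evR_res]
      exact toX'_res f h _

theorem ev_inv (ψ : (RF f F).over T ⟶ (GmF X).over T) {V : Over X'} (g : V ⟶ bc f T) (x : F.obj.obj (op V)) :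
    ev (inv f F ψ) g x = toX' f V (evR f F ψ (sym f g) (extHom f F V x)) := rfl

variable
  (N : CGrpSh3.pushGm Scheme.fppfPrecoverage f ⟶ CGrpSh2.Gm Scheme.fppfPrecoverage X)
  (hN : CGrpSh3.IsNormMap Scheme.fppfPrecoverage f N)

/-- The defect of the norm formula. -/
def dl (ψ : (RF f F).over T ⟶ (GmF X).over T) {U : Over X} (k : U ⟶ T) :
    F.obj.obj (op (bc f U)) →+ (GmF X).obj.obj (op U) :=
  evR f F ψ k - (nv f N U).comp (ev (inv f F ψ) ((Over.pullback f).map k))

theorem dl_res (ψ : (RF f F).over T ⟶ (GmF X).over T) {U' U : Over X} (h : U' ⟶ U) (k : U ⟶ T)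
    (x : F.obj.obj (op (bc f U))) :
    dl f F N ψ (h ≫ k) (res F ((Over.pullback f).map h) x) = res (GmF X) h (dl f F N ψ k x) := by
  simp only [dl, AddMonoidHom.sub_apply, AddMonoidHom.comp_apply, map_sub]
  rw [evR_res, Functor.map_comp, ev_res, nv_res]

include hN in
theorem nv_ev_extHom (χ : F.over (bc f T) ⟶ (GmF X').over (bc f T)) {V : Over X'} (k : mo f V ⟶ T)
    (x : F.obj.obj (op V)) :
    gv (nv f N (mo f V) (ev χ ((Over.pullback f).map k) (extHom f F V x))) =
      gv (ev χ (eu f V ≫ (Over.pullback f).map k) x) :=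
  gv_nv_of_isExt f N hN V ((isExt_extHom f F V x).map_ev χ ((Over.pullback f).map k))

include hN in
theorem dl_extHom (ψ : (RF f F).over T ⟶ (GmF X).over T) {V : Over X'} (k : mo f V ⟶ T) (x : F.obj.obj (op V)) :
    dl f F N ψ k (extHom f F V x) = 0 := by
  simp only [dl, AddMonoidHom.sub_apply, AddMonoidHom.comp_apply]
  rw [sub_eq_zero]
  refine gv_inj (Eq.symm ?_)
  rw [nv_ev_extHom f F N hN (inv f F ψ) k x, ev_inv, sym_eu, gv_toX']

include hN in
/-- The norm formula for sections supported on a clopen with boundedly many sheets. -/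
theorem dl_eq_zero (ψ : (RF f F).over T ⟶ (GmF X).over T) : ∀ (n : ℕ) {U : Over X} (k : U ⟶ T) {D : Over X'}
    (i : D ⟶ bc f U) [IsOpenImmersion i.left], IsClosed (Set.range i.left) →
    Bound n (i.left ≫ pullback.fst U.hom f) → ∀ r : F.obj.obj (op (bc f U)),
    (∀ (W : Over X') (t : W ⟶ bc f U), Avoids t i → res F t r = 0) → dl f F N ψ k r = 0 := by
  intro n
  induction n with
  | zero =>
    intro U k D i _ hc hB r hr
    haveI := hB.isEmpty
    rw [show r = 0 from eq_zero_of_res hc r (eq_zero_of_isEmpty _) hr, map_zero]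
  | succ n ih =>
    intro U k D i _ hc hB r hr
    let π := sym f i
    have hπ : π.left = i.left ≫ pullback.fst U.hom f := sym_left f i
    haveI : IsClosedImmersion i.left := IsClosedImmersion.of_isPreimmersion i.left hc
    haveI : IsFinite (pullback.fst U.hom f) := MorphismProperty.pullback_fst (P := @IsFinite) _ _ inferInstance
    haveI : Flat (pullback.fst U.hom f) := MorphismProperty.pullback_fst (P := @Flat) _ _ inferInstance
    haveI : LocallyOfFinitePresentation (pullback.fst U.hom f) :=
      MorphismProperty.pullback_fst (P := @LocallyOfFinitePresentation) _ _ inferInstance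
    haveI : UniversallyClosed (i.left ≫ pullback.fst U.hom f) := inferInstance
    let U₀ : U.left.Opens := ⟨(Set.range π.left)ᶜ, (by
      rw [hπ]
      exact (i.left ≫ pullback.fst U.hom f).isClosedMap.isClosed_range : IsClosed (Set.range π.left)).isOpen_compl⟩
    let g : ∀ b : Bool, cond b (mo f D) (sub U₀) ⟶ U := fun b => match b with
      | true => π
      | false => subι U₀
    refine eq_zero_of_cover g (fun y => ?_) (fun b => ?_) _ fun b => ?_
    · by_cases hy : y ∈ Set.range π.left
      · exact ⟨true, hy⟩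
      · exact ⟨false, ⟨y, hy⟩, rfl⟩
    · cases b
      · exact ⟨(inferInstance : Flat U₀.ι), (inferInstance : LocallyOfFinitePresentation U₀.ι)⟩
      · show Flat π.left ∧ LocallyOfFinitePresentation π.left
        rw [hπ]
        exact ⟨inferInstance, inferInstance⟩
    cases b
    · show res (GmF X) (subι U₀) (dl f F N ψ k r) = 0
      rw [← dl_res]
      refine (congrArg _ (hr _ _ fun y hy => ?_)).trans (map_zero _)
      obtain ⟨d, hd⟩ := hy
      refine (pullback.fst (U₀.ι ≫ U.hom) f y).2 ⟨d, ?_⟩
      rw [hπ]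
      show pullback.fst U.hom f (i.left d) = U₀.ι _
      rw [hd]
      exact (congr($((Groth.Agent.NormGm.isPullback_prMap f (subι U₀)).w) y)).symm
    show res (GmF X) π (dl f F N ψ k r) = 0
    rw [← dl_res]
    set r' := res F ((Over.pullback f).map π) r with hr'
    let e := eu f D
    let bπ := (Over.pullback f).map π
    have he : e ≫ bπ = i := eu_sym f i
    have hce := isClosed_range_eu f D
    let D₂ : (bc f (mo f D)).left.Opens := bπ.left ⁻¹ᵁ i.left.opensRange ⊓ cmpl e.left hce
    let j : sub D₂ ⟶ bc f (mo f D) := subι D₂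
    have hcj : IsClosed (Set.range j.left) := by
      rw [show Set.range j.left = (D₂ : Set _) from Scheme.Opens.range_ι D₂]
      exact (hc.preimage bπ.left.continuous).inter e.left.isOpenEmbedding.isOpen_range.isClosed_compl
    have hB₂ : Bound n (j.left ≫ pullback.fst (mo f D).hom f) := by
      intro K _ _ z s hs hz
      have hq₀ : Set.range (j.left ≫ bπ.left) ⊆ Set.range i.left := by
        rintro _ ⟨y, rfl⟩
        exact y.2.1
      let q := IsOpenImmersion.lift i.left (j.left ≫ bπ.left) hq₀
      have hq : q ≫ i.left = j.left ≫ bπ.left := IsOpenImmersion.lift_fac _ _ _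
      have hsnd : bπ.left ≫ pullback.snd U.hom f = pullback.snd (mo f D).hom f := Over.w bπ
      have hfst : bπ.left ≫ pullback.fst U.hom f = pullback.fst (mo f D).hom f ≫ π.left :=
        ((Groth.Agent.NormGm.isPullback_prMap f π).w).symm
      refine hB K (z ≫ π.left) (Fin.cons (α := fun _ => Spec (CommRingCat.of K) ⟶ D.left) z fun a => s a ≫ q)
        (Fin.cons_injective_iff.2 ⟨?_, fun a b hab => hs ?_⟩) fun a => ?_
      · rintro ⟨a, ha⟩
        have heq : s a ≫ j.left = z ≫ e.left := by
          refine pullback.hom_ext ?_ ?_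
          · rw [Category.assoc, hz a, Category.assoc]
            erw [eu_fst]
            exact (Category.comp_id z).symm
          · have h1 : z ≫ e.left ≫ pullback.snd (mo f D).hom f = z ≫ i.left ≫ pullback.snd U.hom f := by
              rw [← hsnd, ← he, Over.comp_left, Category.assoc]
            rw [Category.assoc, Category.assoc, h1, ← ha]
            simp only [Category.assoc]
            refine congrArg (s a ≫ ·) ?_
            rw [reassoc_of% hq, hsnd]
        let pt : (Spec (CommRingCat.of K) : Scheme.{u}) := (⊥ : PrimeSpectrum K)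
        have h2 := congr($heq pt)
        exact (s a pt).2.2 ⟨z pt, h2.symm⟩
      · have h3 : s a ≫ j.left = s b ≫ j.left := by
          refine pullback.hom_ext ?_ ?_
          · rw [Category.assoc, hz a, Category.assoc, hz b]
          · rw [← hsnd]
            simp only [Category.assoc]
            rw [← reassoc_of% hq, reassoc_of% hab]
        exact (cancel_mono j.left).1 h3
      · refine Fin.cases ?_ (fun b => ?_) a
        · rw [Fin.cons_zero, hπ]
        · rw [Fin.cons_succ, Category.assoc, ← Category.assoc q, hq, Category.assoc, hfst, ← Category.assoc j.left,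
            ← Category.assoc, hz b]
    have hs₂ : ∀ (W : Over X') (t : W ⟶ bc f (mo f D)), Avoids t j →
        res F t (r' - extHom f F D (res F e r')) = 0 := by
      intro W t ht
      refine eq_zero_of_cover (fun b : Bool => subι (cond b (t.left ⁻¹ᵁ e.left.opensRange)
        (t.left ⁻¹ᵁ cmpl e.left hce))) (fun y => ?_) (fun b => ⟨?_, ?_⟩) _ fun b => ?_
      · by_cases hy : t.left y ∈ Set.range e.left
        · exact ⟨true, ⟨y, hy⟩, rfl⟩
        · exact ⟨false, ⟨y, hy⟩, rfl⟩
      · exact (inferInstance : Flat (Scheme.Opens.ι _))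
      · exact (inferInstance : LocallyOfFinitePresentation (Scheme.Opens.ι _))
      rw [res_res]
      cases b <;> dsimp only [cond_true, cond_false] <;> refine (map_sub (res F _) _ _).trans ?_
      · rw [ (isExt_extHom f F D _).avoid _ (subι (t.left ⁻¹ᵁ cmpl e.left hce) ≫ t) (fun y => y.2), sub_zero,
          hr', res_res]
        refine hr _ ((subι (t.left ⁻¹ᵁ cmpl e.left hce) ≫ t) ≫ bπ) fun y hy => ht y.1 ⟨⟨t.left y.1, hy, y.2⟩, rfl⟩
      · rw [← map_sub]
        refine res_eq_zero_of_range (i := e) (subι (t.left ⁻¹ᵁ e.left.opensRange) ≫ t) (fun y => y.2) ?_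
        exact (map_sub (res F e) _ _).trans (sub_eq_zero.2 (isExt_extHom f F D _).res_eq.symm)
    have h4 := ih (π ≫ k) j hcj hB₂ _ hs₂
    rwa [map_sub, dl_extHom f F N hN, sub_zero] at h4

/-- The map of the statement on a character. -/
theorem ev_dualNormMap (χ : F.over (bc f T) ⟶ (GmF X').over (bc f T)) {U : Over X} (k : U ⟶ T)
    (y : F.obj.obj (op (bc f U))) :
    evR f F ((CGrpSh3.dualNormMap Scheme.fppfPrecoverage f N F).hom.app (op T) χ) k y =
      nv f N U (ev χ ((Over.pullback f).map k) y) := rfl

include hN in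
theorem bijective_app [CompactSpace X] :
    Function.Bijective ((CGrpSh3.dualNormMap Scheme.fppfPrecoverage f N F).hom.app (op T)) := by
  refine ⟨fun χ χ' hχ => ?_, fun ψ => ⟨inv f F ψ, ?_⟩⟩
  · have hl : ∀ (φ : F.over (bc f T) ⟶ (GmF X').over (bc f T)) (V : Over X') (g : V ⟶ bc f T) (x : F.obj.obj (op V)),
        gv (ev φ g x) = gv (evR f F ((CGrpSh3.dualNormMap Scheme.fppfPrecoverage f N F).hom.app (op T) φ) (sym f g)
          (extHom f F V x)) := fun φ V g x => by
      rw [ev_dualNormMap, nv_ev_extHom f F N hN φ, eu_sym]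
    exact ev_hom_ext fun V g x => gv_inj ((hl χ V g x).trans (by rw [hχ]; exact (hl χ' V g x).symm))
  · refine ev_hom_ext fun U k y => ?_
    obtain ⟨n, -, hn⟩ := exists_bound f
    haveI : IsOpenImmersion (𝟙 (bc f U) : _ ⟶ bc f U).left := by rw [Over.id_left]; infer_instance
    have h := dl_eq_zero f F N hN ψ n k (𝟙 (bc f U)) (by simp) (fun K _ _ z s hs hz => by
      refine hn K (z ≫ U.hom) (fun a => s a ≫ pullback.snd U.hom f) (fun a b hab => hs ?_) fun a => ?_
      · refine pullback.hom_ext ?_ hab
        simpa using (hz a).trans (hz b).symm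
      · rw [Category.assoc, ← pullback.condition, ← Category.assoc]
        simpa using congrArg (· ≫ U.hom) (hz a)) y
      fun W t ht => by
        haveI : IsEmpty W.left := ⟨fun p => ht p ⟨t.left p, rfl⟩⟩
        exact eq_zero_of_isEmpty _
    simp only [dl, AddMonoidHom.sub_apply, AddMonoidHom.comp_apply, sub_eq_zero] at h
    exact (ev_dualNormMap f F N (inv f F ψ) k y).trans h.symm

include hN in
/-- The map on dual sheaves is an isomorphism. -/
theorem isIso_dualNormMap [CompactSpace X] : IsIso (CGrpSh3.dualNormMap Scheme.fppfPrecoverage f N F) := by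
  haveI : ∀ T : (Over X)ᵒᵖ, IsIso ((CGrpSh3.dualNormMap Scheme.fppfPrecoverage f N F).hom.app T) := fun T =>
    (ConcreteCategory.isIso_iff_bijective _).2 (bijective_app f F (T := T.unop) N hN)
  haveI : IsIso (CGrpSh3.dualNormMap Scheme.fppfPrecoverage f N F).hom := NatIso.isIso_of_isIso_app _
  haveI : IsIso ((sheafToPresheaf _ _).map (CGrpSh3.dualNormMap Scheme.fppfPrecoverage f N F)) :=
    inferInstanceAs (IsIso (CGrpSh3.dualNormMap Scheme.fppfPrecoverage f N F).hom)
  exact isIso_of_reflects_iso _ (sheafToPresheaf _ _)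

end DualNormLib
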