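import Groth.Agent.NormGmLib.Main
import Groth.Prelude.Def_GmPts
import Mathlib.AlgebraicGeometry.Morphisms.FinitePresentation
import Mathlib.RingTheory.Finiteness.ModuleFinitePresentation

/-!
# The norm map of a finite flat morphism of finite presentation
-/

set_option autoImplicit false
set_option linter.style.haveILetI false
set_option backward.isDefEq.respectTransparency false
set_option maxHeartbeats 800000

noncomputable section

universe u

open CategoryTheory CategoryTheory.Limits AlgebraicGeometry Opposite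
open Groth.Agent
open Groth.Agent.NormGm (pr prMap prAlg Good nm good_bc sub subι IsNm appTop_prMap_comp appTop_sub)

namespace DualNormFp

variable {X X' : Scheme.{u}} (f : X' ⟶ X)

/-- Near every point of an affine open there is a smaller one over which the pushforward is free. -/
theorem exists_free_chart [IsFinite f] [Flat f] [LocallyOfFinitePresentation f] {T : Over X} (x : T.left) :
    ∃ V : T.left.Opens, x ∈ V ∧ IsAffineOpen V ∧
      (letI : Algebra Γ((Over.mk (V.ι ≫ T.hom)).left, ⊤) Γ(((Over.pullback f).obj (Over.mk (V.ι ≫ T.hom))).left, ⊤) :=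
          (pullback.fst (Over.mk (V.ι ≫ T.hom)).hom f).appTop.hom.toAlgebra;
        Module.Finite Γ((Over.mk (V.ι ≫ T.hom)).left, ⊤) Γ(((Over.pullback f).obj (Over.mk (V.ι ≫ T.hom))).left, ⊤) ∧
        Module.Free Γ((Over.mk (V.ι ≫ T.hom)).left, ⊤) Γ(((Over.pullback f).obj (Over.mk (V.ι ≫ T.hom))).left, ⊤)) := by
  obtain ⟨U, hU, hxU, -⟩ := exists_isAffineOpen_mem_and_subset (x := T.hom.base x) (U := ⊤) trivial
  haveI : IsAffine (U : Scheme.{u}) := hU
  haveI : IsAffine (f ⁻¹ᵁ U : Scheme.{u}) := hU.preimage f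
  letI alg₀ := (f ∣_ U).appTop.hom.toAlgebra
  haveI : IsFinite (f ∣_ U) := MorphismProperty.of_isPullback (P := @IsFinite) (isPullback_morphismRestrict f U).flip ‹IsFinite f›
  haveI : Flat (f ∣_ U) := MorphismProperty.of_isPullback (P := @Flat) (isPullback_morphismRestrict f U).flip ‹Flat f›
  haveI : Module.Finite Γ((U : Scheme.{u}), ⊤) Γ((f ⁻¹ᵁ U : Scheme.{u}), ⊤) := (f ∣_ U).finite_appTop
  haveI : Module.Flat Γ((U : Scheme.{u}), ⊤) Γ((f ⁻¹ᵁ U : Scheme.{u}), ⊤) :=
    (HasRingHomProperty.iff_of_isAffine (P := @Flat) (f := f ∣_ U)).1 ‹_›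
  haveI : LocallyOfFinitePresentation (f ∣_ U) := MorphismProperty.of_isPullback (P := @LocallyOfFinitePresentation)
    (isPullback_morphismRestrict f U).flip ‹LocallyOfFinitePresentation f›
  haveI : Algebra.FinitePresentation Γ((U : Scheme.{u}), ⊤) Γ((f ⁻¹ᵁ U : Scheme.{u}), ⊤) :=
    (HasRingHomProperty.iff_of_isAffine (P := @LocallyOfFinitePresentation) (f := f ∣_ U)).1 ‹_›
  haveI : Module.FinitePresentation Γ((U : Scheme.{u}), ⊤) Γ((f ⁻¹ᵁ U : Scheme.{u}), ⊤) :=
    Module.FinitePresentation.of_finite_of_finitePresentation _ _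
  let p : PrimeSpectrum Γ((U : Scheme.{u}), ⊤) := (U : Scheme.{u}).isoSpec.hom.base ⟨T.hom.base x, hxU⟩
  have hp : p ∈ Module.freeLocus Γ((U : Scheme.{u}), ⊤) Γ((f ⁻¹ᵁ U : Scheme.{u}), ⊤) := by
    rw [Module.freeLocus_eq_univ]
    trivial
  haveI : Module.Free _ _ := hp
  obtain ⟨a, ha, hfree, -⟩ := Module.FinitePresentation.exists_free_localizedModule_powers
    p.asIdeal.primeCompl (LocalizedModule.mkLinearMap p.asIdeal.primeCompl Γ((f ⁻¹ᵁ U : Scheme.{u}), ⊤))
    (Localization.AtPrime p.asIdeal)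
  have hDa : T.hom.base x ∈ U.ι ''ᵁ (U : Scheme.{u}).basicOpen a := by
    refine ⟨⟨T.hom.base x, hxU⟩, ?_, rfl⟩
    rw [← (U : Scheme.{u}).toSpecΓ_preimage_basicOpen a]
    exact ha
  obtain ⟨V, hV, hxV, hVle⟩ := exists_isAffineOpen_mem_and_subset (x := x) (U := T.hom ⁻¹ᵁ (U.ι ''ᵁ (U : Scheme.{u}).basicOpen a)) hDa
  haveI : IsAffine (V : Scheme.{u}) := hV
  haveI : IsAffine (Over.mk (V.ι ≫ T.hom)).left := hV
  have hVU : V ≤ T.hom ⁻¹ᵁ U := fun z hz => by
    obtain ⟨w, -, hw⟩ := hVle hz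
    rw [Scheme.Hom.mem_preimage, ← hw]
    exact w.2
  refine ⟨V, hxV, hV, ?_⟩
  letI alg₁ : Algebra Γ((Over.mk (V.ι ≫ T.hom)).left, ⊤) Γ(((Over.pullback f).obj (Over.mk (V.ι ≫ T.hom))).left, ⊤) :=
    (pullback.fst (Over.mk (V.ι ≫ T.hom)).hom f).appTop.hom.toAlgebra
  let u : (V : Scheme.{u}) ⟶ U := T.hom.resLE U V hVU
  have hu : u ≫ U.ι = (Over.mk (V.ι ≫ T.hom)).hom := T.hom.resLE_comp_ι hVU
  let q := (isPullback_morphismRestrict f U).flip.lift (pullback.snd (Over.mk (V.ι ≫ T.hom)).hom f)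
    (pullback.fst (Over.mk (V.ι ≫ T.hom)).hom f ≫ u) (by rw [Category.assoc, hu, pullback.condition])
  have hsq : IsPullback (pullback.fst (Over.mk (V.ι ≫ T.hom)).hom f) q u (f ∣_ U) := by
    refine IsPullback.flip (IsPullback.of_right ?_ (IsPullback.lift_snd _ _ _ _) (isPullback_morphismRestrict f U).flip)
    rw [show q ≫ (f ⁻¹ᵁ U).ι = pullback.snd (Over.mk (V.ι ≫ T.hom)).hom f from IsPullback.lift_fst _ _ _ _, hu]
    exact (IsPullback.of_hasPullback _ _).flip
  have hpo := isPushout_appTop_of_isPullback hsq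
  letI : Algebra Γ((U : Scheme.{u}), ⊤) Γ((Over.mk (V.ι ≫ T.hom)).left, ⊤) := u.appTop.hom.toAlgebra
  letI : Algebra Γ((f ⁻¹ᵁ U : Scheme.{u}), ⊤) Γ(((Over.pullback f).obj (Over.mk (V.ι ≫ T.hom))).left, ⊤) := q.appTop.hom.toAlgebra
  letI : Algebra Γ((U : Scheme.{u}), ⊤) Γ(((Over.pullback f).obj (Over.mk (V.ι ≫ T.hom))).left, ⊤) :=
    ((pullback.fst (Over.mk (V.ι ≫ T.hom)).hom f).appTop.hom.comp u.appTop.hom).toAlgebra
  haveI : IsScalarTower Γ((U : Scheme.{u}), ⊤) Γ((Over.mk (V.ι ≫ T.hom)).left, ⊤)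
      Γ(((Over.pullback f).obj (Over.mk (V.ι ≫ T.hom))).left, ⊤) := IsScalarTower.of_algebraMap_eq' rfl
  haveI : IsScalarTower Γ((U : Scheme.{u}), ⊤) Γ((f ⁻¹ᵁ U : Scheme.{u}), ⊤)
      Γ(((Over.pullback f).obj (Over.mk (V.ι ≫ T.hom))).left, ⊤) := IsScalarTower.of_algebraMap_eq' (by
    change (pullback.fst (Over.mk (V.ι ≫ T.hom)).hom f).appTop.hom.comp u.appTop.hom = q.appTop.hom.comp (f ∣_ U).appTop.hom
    rw [← CommRingCat.hom_comp, ← CommRingCat.hom_comp, ← Scheme.Hom.comp_appTop, ← Scheme.Hom.comp_appTop, hsq.w])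
  haveI : Algebra.IsPushout Γ((U : Scheme.{u}), ⊤) Γ((Over.mk (V.ι ≫ T.hom)).left, ⊤) Γ((f ⁻¹ᵁ U : Scheme.{u}), ⊤)
      Γ(((Over.pullback f).obj (Over.mk (V.ι ≫ T.hom))).left, ⊤) := CommRingCat.isPushout_iff_isPushout.1 hpo
  let e := (Algebra.IsPushout.equiv Γ((U : Scheme.{u}), ⊤) Γ((Over.mk (V.ι ≫ T.hom)).left, ⊤) Γ((f ⁻¹ᵁ U : Scheme.{u}), ⊤)
      Γ(((Over.pullback f).obj (Over.mk (V.ι ≫ T.hom))).left, ⊤)).toLinearEquiv
  have hunit : IsUnit (algebraMap Γ((U : Scheme.{u}), ⊤) Γ((Over.mk (V.ι ≫ T.hom)).left, ⊤) a) := by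
    change IsUnit (u.appTop a)
    have h1 : u ⁻¹ᵁ (U : Scheme.{u}).basicOpen a = ⊤ := by
      rw [eq_top_iff]
      intro z _
      obtain ⟨w, hw, hw'⟩ := hVle z.2
      have h2 : U.ι.base w = U.ι.base (u.base z) := hw'.trans congr($(hu.symm).base z)
      rw [Scheme.Hom.mem_preimage, ← U.ι.isOpenEmbedding.injective h2]
      exact hw
    rw [Scheme.preimage_basicOpen_top] at h1
    exact RingedSpace.isUnit_of_isUnit_germ _ ⊤ _ fun z hz =>
      (Scheme.mem_basicOpen _ _ z hz).1 (by rw [h1]; trivial)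
  letI := (IsLocalization.Away.lift a hunit : Localization.Away a →+* Γ((Over.mk (V.ι ≫ T.hom)).left, ⊤)).toAlgebra
  haveI : IsScalarTower Γ((U : Scheme.{u}), ⊤) (Localization.Away a) Γ((Over.mk (V.ι ≫ T.hom)).left, ⊤) :=
    IsScalarTower.of_algebraMap_eq fun z => (IsLocalization.Away.lift_eq a hunit z).symm
  haveI : Module.Free (Localization.Away a) (TensorProduct Γ((U : Scheme.{u}), ⊤) (Localization.Away a) Γ((f ⁻¹ᵁ U : Scheme.{u}), ⊤)) :=
    Module.Free.of_equiv (LocalizedModule.equivTensorProduct (Submonoid.powers a) Γ((f ⁻¹ᵁ U : Scheme.{u}), ⊤))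
  let e' := (TensorProduct.AlgebraTensorModule.cancelBaseChange Γ((U : Scheme.{u}), ⊤) (Localization.Away a)
    Γ((Over.mk (V.ι ≫ T.hom)).left, ⊤) Γ((Over.mk (V.ι ≫ T.hom)).left, ⊤) Γ((f ⁻¹ᵁ U : Scheme.{u}), ⊤)).trans e
  exact ⟨Module.Finite.equiv e, Module.Free.of_equiv e'⟩


variable [IsFinite f] [Flat f] [LocallyOfFinitePresentation f]

theorem exists_good (T : Over X) (x : T.left) : ∃ V : T.left.Opens, x ∈ V ∧ Good f (sub T V) := by
  obtain ⟨V, hx, hV, h⟩ := exists_free_chart f (T := T) x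
  exact ⟨V, hx, hV, h.1, h.2⟩

theorem isNm_unique {T : Over X} {t : Γ(pr f T, ⊤)} {a b : Γ(T.left, ⊤)}
    (ha : IsNm f T t a) (hb : IsNm f T t b) : a = b := by
  choose V hxV hV using exists_good f T
  refine TopCat.Sheaf.eq_of_locally_eq' T.left.sheaf V ⊤ (fun x => homOfLE le_top)
    (fun x _ => TopologicalSpace.Opens.mem_iSup.2 ⟨x, hxV x⟩) a b fun x => ?_
  have h := (ha _ (subι T (V x)) (hV x)).trans (hb _ (subι T (V x)) (hV x)).symm
  change (V x).ι.appTop a = (V x).ι.appTop b at h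
  have key : ∀ c, (V x).ι.appTop c = (V x).topIso.inv (T.left.presheaf.map (homOfLE le_top).op c) := fun c => by
    rw [← CommRingCat.comp_apply]
    congr 2
    simp [Scheme.Opens.topIso, ← Functor.map_comp]
  rw [key, key] at h
  exact (V x).topIso.commRingCatIsoToRingEquiv.symm.injective h

/-- The glued norm. -/
theorem exists_isNm (T : Over X) (t : Γ(pr f T, ⊤)) : ∃ a, IsNm f T t a := by
  choose V hxV hV using exists_good f T
  let n : ∀ x, Γ(T.left, V x) := fun x => (V x).topIso.hom (nm f (sub T (V x)) ((prMap f (subι T (V x))).appTop t))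
  have hc : TopCat.Presheaf.IsCompatible T.left.sheaf.1 V n := by
    intro x y
    obtain ⟨W, hW⟩ : ∃ W : T.left.Opens, W = V x ⊓ V y := ⟨_, rfl⟩
    have hxy : V x ⊓ V y ≤ W := hW.ge
    choose U hUaff hU hUle using fun z : W => exists_isAffineOpen_mem_and_subset (x := z.1) (U := W) z.2
    have cov : V x ⊓ V y ≤ iSup U := fun z hz => TopologicalSpace.Opens.mem_iSup.2 ⟨⟨z, hxy hz⟩, hU _⟩
    refine TopCat.Sheaf.eq_of_locally_eq' T.left.sheaf U (V x ⊓ V y)
      (fun z => homOfLE ((hUle z : U z ≤ W).trans hW.le)) cov _ _ fun z => ?_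
    have hUx : U z ≤ V x := ((hUle z : U z ≤ W).trans hW.le).trans inf_le_left
    have hUy : U z ≤ V y := ((hUle z : U z ≤ W).trans hW.le).trans inf_le_right
    have key : ∀ w (hUw : U z ≤ V w), T.left.presheaf.map (homOfLE hUw).op (n w) =
        (U z).topIso.hom (nm f (sub T (U z)) ((prMap f (subι T (U z))).appTop t)) := by
      intro w hUw
      let i : sub T (U z) ⟶ sub T (V w) := Over.homMk (T.left.homOfLE hUw) (by simp)
      have hi : i ≫ subι T (V w) = subι T (U z) := Over.OverMorphism.ext (by simp [i])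
      have h := (good_bc f i (hUaff z) (hV w)).2 ((prMap f (subι T (V w))).appTop t)
      rw [appTop_prMap_comp, hi] at h
      rw [← h]
      change T.left.presheaf.map _ ((V w).topIso.hom _) = (U z).topIso.hom ((T.left.homOfLE hUw).appTop _)
      rw [← CommRingCat.comp_apply, ← CommRingCat.comp_apply]
      congr 2
      simp [Scheme.Opens.topIso, ← Functor.map_comp]
    have hx := key x hUx
    have hy := key y hUy
    have e : ∀ w (h1 : U z ≤ V x ⊓ V y) (h2 : V x ⊓ V y ≤ V w), T.left.presheaf.map (homOfLE h1).op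
        (T.left.presheaf.map (homOfLE h2).op (n w)) = T.left.presheaf.map (homOfLE (h1.trans h2)).op (n w) := by
      intro w h1 h2
      rw [← CommRingCat.comp_apply, ← Functor.map_comp]
      rfl
    exact ((e x _ inf_le_left).trans hx).trans ((e y _ inf_le_right).trans hy).symm
  obtain ⟨a, ha, -⟩ := TopCat.Sheaf.existsUnique_gluing' T.left.sheaf V ⊤ (fun x => homOfLE le_top)
    (fun x _ => TopologicalSpace.Opens.mem_iSup.2 ⟨x, hxV x⟩) n hc
  refine ⟨a, fun T' g hT' => ?_⟩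
  haveI := hT'.1
  choose U hUaff hU hUle using fun z : T'.left =>
    exists_isAffineOpen_mem_and_subset (x := z) (U := g.left ⁻¹ᵁ V (g.left z)) (hxV (g.left z))
  refine TopCat.Sheaf.eq_of_locally_eq' T'.left.sheaf U ⊤ (fun z => homOfLE le_top)
    (fun z _ => TopologicalSpace.Opens.mem_iSup.2 ⟨z, hU z⟩) _ _ fun z => ?_
  change T'.left.presheaf.map _ _ = T'.left.presheaf.map _ _
  apply (U z).topIso.commRingCatIsoToRingEquiv.symm.injective
  change (U z).topIso.inv _ = (U z).topIso.inv _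
  rw [← appTop_sub, ← appTop_sub]
  let i := subι T' (U z)
  let j : sub T' (U z) ⟶ sub T (V (g.left z)) :=
    Over.homMk (g.left.resLE (V (g.left z)) (U z) (hUle z)) (by simp)
  have hj : j ≫ subι T (V (g.left z)) = i ≫ g := Over.OverMorphism.ext (by simp [i, j])
  have h1 := (good_bc f i (hUaff z) hT').2 ((prMap f g).appTop t)
  have h2 := (good_bc f j (hUaff z) (hV (g.left z))).2 ((prMap f (subι T (V (g.left z)))).appTop t)
  rw [appTop_prMap_comp] at h1 h2
  rw [hj] at h2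
  change i.left.appTop _ = i.left.appTop _
  rw [h1, ← h2, ← CommRingCat.comp_apply, ← Scheme.Hom.comp_appTop, ← Over.comp_left, ← hj]
  have h3 : (V (g.left z)).ι.appTop a = nm f (sub T (V (g.left z))) ((prMap f (subι T (V (g.left z)))).appTop t) := by
    rw [appTop_sub]
    refine Eq.trans (congrArg _ (ha (g.left z))) ?_
    exact Iso.hom_inv_id_apply _ _
  rw [← h3, Over.comp_left, Scheme.Hom.comp_appTop]
  rfl

theorem existsUnique_isNm (T : Over X) (t : Γ(pr f T, ⊤)) : ∃! a, IsNm f T t a :=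
  let ⟨a, ha⟩ := exists_isNm f T t
  ⟨a, ha, fun _ hb => isNm_unique f hb ha⟩

/-- The norm of a global function. -/
def nrm (T : Over X) (t : Γ(pr f T, ⊤)) : Γ(T.left, ⊤) := (exists_isNm f T t).choose

theorem isNm_nrm (T : Over X) (t : Γ(pr f T, ⊤)) : IsNm f T t (nrm f T t) := (exists_isNm f T t).choose_spec

theorem nrm_natural {T' T : Over X} (g : T' ⟶ T) (t : Γ(pr f T, ⊤)) :
    g.left.appTop (nrm f T t) = nrm f T' ((prMap f g).appTop t) := by
  refine isNm_unique f (fun T'' h hT'' => ?_) (isNm_nrm f T' _)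
  rw [← CommRingCat.comp_apply, ← Scheme.Hom.comp_appTop, ← Over.comp_left, appTop_prMap_comp]
  exact isNm_nrm f T t _ (h ≫ g) hT''

theorem nrm_mul (T : Over X) (t t' : Γ(pr f T, ⊤)) : nrm f T (t * t') = nrm f T t * nrm f T t' := by
  refine isNm_unique f (isNm_nrm f T _) fun T' g hT' => ?_
  letI := prAlg f T'
  rw [map_mul, map_mul, isNm_nrm f T t T' g hT', isNm_nrm f T t' T' g hT']
  exact (map_mul (Algebra.norm Γ(T'.left, ⊤)) _ _).symm

theorem nrm_one (T : Over X) : nrm f T 1 = 1 := by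
  refine isNm_unique f (isNm_nrm f T _) fun T' g _ => ?_
  letI := prAlg f T'
  rw [map_one, map_one]
  exact (map_one (Algebra.norm Γ(T'.left, ⊤))).symm

/-- The norm as a map of units. -/
def nrmUnit (T : Over X) : (Γ(pr f T, ⊤))ˣ →* (Γ(T.left, ⊤))ˣ :=
  Units.map { toFun := nrm f T, map_one' := nrm_one f T, map_mul' := nrm_mul f T }


section
set_option backward.isDefEq.respectTransparency true
open MonoidalCategory CartesianMonoidalCategory
open scoped MonObj

noncomputable def normHom (T : Over X) :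
    ((Over.pullback f).obj T ⟶ Red.Gm X') →* (T ⟶ Red.Gm X) :=
  (GmPts.equiv T).symm.toMonoidHom.comp ((nrmUnit f T).comp (GmPts.equiv ((Over.pullback f).obj T)).toMonoidHom)

theorem gmFn_normHom (T : Over X) (t : (Over.pullback f).obj T ⟶ Red.Gm X') :
    Red.gmFn (normHom f T t) = nrm f T (Red.gmFn t) := GmPts.gmFn_ptOfUnit _

theorem normHom_natural {T' T : Over X} (g : T' ⟶ T) (t : (Over.pullback f).obj T ⟶ Red.Gm X') :
    normHom f T' ((Over.pullback f).map g ≫ t) = g ≫ normHom f T t := by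
  refine GmPts.gmFn_injective ?_
  show Red.gmFn _ = Red.gmFn _
  rw [gmFn_normHom, GmPts.gmFn_comp, GmPts.gmFn_comp, gmFn_normHom]
  exact (nrm_natural f g _).symm

noncomputable def normMap :
    CGrpSh3.pushGm Scheme.fppfPrecoverage f ⟶ CGrpSh2.Gm Scheme.fppfPrecoverage X :=
  ⟨{ app := fun T => AddCommGrpCat.ofHom
      { toFun := fun x => ULift.up (Additive.ofMul (normHom f (unop T) x.down.toMul))
        map_zero' := ULift.ext _ _ (congrArg Additive.ofMul (map_one (normHom f (unop T))))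
        map_add' := fun x y => ULift.ext _ _ (congrArg Additive.ofMul (map_mul (normHom f (unop T)) _ _)) }
     naturality := fun T T' g => AddCommGrpCat.ext fun x => ULift.ext _ _ (congrArg Additive.ofMul (normHom_natural f g.unop x.down.toMul)) }⟩

theorem isNormMap : CGrpSh3.IsNormMap Scheme.fppfPrecoverage f (normMap f) := by
  intro T hT alg hfin hfree halg t
  show Red.gmFn (normHom f T t) = _
  rw [gmFn_normHom]
  obtain rfl : alg = prAlg f T := Algebra.algebra_ext _ _ fun a => halg a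
  have h := isNm_nrm f T (Red.gmFn t) T (𝟙 T) ⟨hT, hfin, hfree⟩
  rw [prMap, CategoryTheory.Functor.map_id] at h
  simpa [nm] using h


end

end DualNormFp
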