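import Groth.Agent.DualNormLib.Ext0
import Groth.Agent.DualNormLib.NormFp
import Groth.Agent.NormGmLib.Main
import Groth.Agent.FFDescLib.EtaleGraph
import Groth.Prelude.Def_GmPts
import Mathlib.AlgebraicGeometry.Morphisms.Etale
import Mathlib.LinearAlgebra.Matrix.SchurComplement

/-!
# The norm of a function extended by one from the graph component
-/

set_option autoImplicit false
set_option backward.isDefEq.respectTransparency false
set_option linter.style.haveILetI false
set_option maxHeartbeats 1000000
universe u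

open CategoryTheory CategoryTheory.Limits AlgebraicGeometry Opposite
open Groth.Agent (NormGm.Good NormGm.exists_good NormGm.good_bc NormGm.prAlg NormGm.appTop_sub)

noncomputable section

namespace DualNormLib

section pts

variable {S : Scheme.{u}}

/-- The multiplicative group as a sheaf. -/
abbrev GmF (S : Scheme.{u}) : BigSite.Ab Scheme.fppfPrecoverage S := CGrpSh2.Gm Scheme.fppfPrecoverage S

/-- The unit of a section. -/
def gu {U : Over S} (x : (GmF S).obj.obj (op U)) : (Γ(U.left, ⊤))ˣ := GmPts.equiv U x.down.toMul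

/-- The function of a section. -/
def gv {U : Over S} (x : (GmF S).obj.obj (op U)) : Γ(U.left, ⊤) := Red.gmFn x.down.toMul

theorem gu_val {U : Over S} (x : (GmF S).obj.obj (op U)) : (gu x : Γ(U.left, ⊤)) = gv x := rfl

theorem gv_inj {U : Over S} {x y : (GmF S).obj.obj (op U)} (h : gv x = gv y) : x = y :=
  ULift.ext _ _ (Additive.toMul.injective (GmPts.gmFn_injective h))

theorem gv_res {U V : Over S} (h : U ⟶ V) (x : (GmF S).obj.obj (op V)) :
    gv (res (GmF S) h x) = h.left.appTop (gv x) :=
  GmPts.gmFn_comp h x.down.toMul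

theorem gv_add {U : Over S} (x y : (GmF S).obj.obj (op U)) : gv (x + y) = gv x * gv y :=
  GmPts.gmFn_mul x.down.toMul y.down.toMul

theorem gv_zero {U : Over S} : gv (0 : (GmF S).obj.obj (op U)) = 1 := by
  have h := gv_add (0 : (GmF S).obj.obj (op U)) 0
  rw [add_zero] at h
  exact ((gu (0 : (GmF S).obj.obj (op U))).isUnit.mul_eq_left).1 h.symm

/-- The section of a unit. -/
def gmk (U : Over S) (v : (Γ(U.left, ⊤))ˣ) : (GmF S).obj.obj (op U) := ULift.up (Additive.ofMul (GmPts.ptOfUnit v))

theorem gv_gmk (U : Over S) (v : (Γ(U.left, ⊤))ˣ) : gv (gmk U v) = v := GmPts.gmFn_ptOfUnit v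

end pts

variable {X X' : Scheme.{u}} (f : X' ⟶ X)

/-- An object over the source as an object over the target. -/
abbrev mo (V : Over X') : Over X := (Over.map f).obj V

/-- Base change to the source. -/
abbrev bc (U : Over X) : Over X' := (Over.pullback f).obj U

/-- The graph. -/
abbrev eu (V : Over X') : V ⟶ bc f (mo f V) := (Over.mapPullbackAdj f).unit.app V

/-- Sections over the target as sections over the source. -/
def toX' (V : Over X') : (GmF X).obj.obj (op (mo f V)) →+ (GmF X').obj.obj (op V) :=
  AddMonoidHom.mk' (fun x : (GmF X).obj.obj (op (mo f V)) => gmk V (gu (S := X) (U := mo f V) x)) fun x y => gv_inj (by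
    rw [gv_add, gv_gmk, gv_gmk, gv_gmk]
    exact gv_add x y)

theorem gv_toX' (V : Over X') (x : (GmF X).obj.obj (op (mo f V))) : gv (toX' f V x) = gv x :=
  gv_gmk V (gu (S := X) (U := mo f V) x)

theorem toX'_injective (V : Over X') : Function.Injective (toX' f V) := fun x y h => gv_inj (by
  rw [← gv_toX' f V x, ← gv_toX' f V y, h])

theorem toX'_res {V' V : Over X'} (h : V' ⟶ V) (x : (GmF X).obj.obj (op (mo f V))) :
    toX' f V' (res (GmF X) ((Over.map f).map h) x) = res (GmF X') h (toX' f V x) := gv_inj (by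
  rw [gv_toX', gv_res, gv_res, gv_toX']
  rfl)

theorem eu_fst (V : Over X') : (eu f V).left ≫ pullback.fst (V.hom ≫ f) f = 𝟙 _ := by
  simp [eu, mo, Over.mapPullbackAdj]

theorem eu_natural {V' V : Over X'} (h : V' ⟶ V) :
    h ≫ eu f V = eu f V' ≫ (Over.pullback f).map ((Over.map f).map h) :=
  (Over.mapPullbackAdj f).unit.naturality h

variable [IsFinite f] [Etale f]

instance isOpenImmersion_eu (V : Over X') : IsOpenImmersion (eu f V).left := by
  haveI : FormallyUnramified (pullback.fst (V.hom ≫ f) f) :=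
    MorphismProperty.pullback_fst (P := @FormallyUnramified) _ _ inferInstance
  haveI : LocallyOfFiniteType (pullback.fst (V.hom ≫ f) f) :=
    MorphismProperty.pullback_fst (P := @LocallyOfFiniteType) _ _ inferInstance
  exact FFDescLib.isOpenImmersion_of_section (pullback.fst (V.hom ≫ f) f) (eu f V).left (eu_fst f V)

theorem isClosed_range_eu (V : Over X') : IsClosed (Set.range (eu f V).left) := by
  haveI : IsFinite (pullback.fst (V.hom ≫ f) f) := MorphismProperty.pullback_fst (P := @IsFinite) _ _ inferInstance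
  haveI : IsClosedImmersion ((eu f V).left ≫ pullback.fst (V.hom ≫ f) f) := by rw [eu_fst]; infer_instance
  haveI : IsClosedImmersion (eu f V).left := IsClosedImmersion.of_comp (eu f V).left (pullback.fst (V.hom ≫ f) f)
  exact (eu f V).left.isClosedEmbedding.isClosed_range

omit [IsFinite f] [Etale f] in
theorem range_eu_preimage {V' V : Over X'} (h : V' ⟶ V) (p : (bc f (mo f V')).left)
    (hp : ((Over.pullback f).map ((Over.map f).map h)).left p ∈ Set.range (eu f V).left) :
    p ∈ Set.range (eu f V').left := by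
  have hbot : IsPullback (pullback.fst (V'.hom ≫ f) f) ((Over.pullback f).map ((Over.map f).map h)).left h.left
      (pullback.fst (V.hom ≫ f) f) := Groth.Agent.NormGm.isPullback_prMap f ((Over.map f).map h)
  have hsq : IsPullback (eu f V').left h.left ((Over.pullback f).map ((Over.map f).map h)).left (eu f V).left := by
    refine IsPullback.of_right ?_ (congrArg CommaMorphism.left (eu_natural f h)).symm hbot
    rw [eu_fst, eu_fst]
    exact IsPullback.of_horiz_isIso ⟨by simp⟩
  obtain ⟨q, hq⟩ := hp
  obtain ⟨z, hz, -⟩ := Scheme.Pullback.exists_preimage_pullback (f := ((Over.pullback f).map ((Over.map f).map h)).left)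
    (g := (eu f V).left) p q hq.symm
  refine ⟨hsq.isoPullback.inv z, ?_⟩
  exact (congr($(hsq.isoPullback_inv_fst) z)).trans hz

/-- The complement of a closed range. -/
def cmpl {D P : Scheme.{u}} (e : D ⟶ P) (hc : IsClosed (Set.range e)) : P.Opens := ⟨(Set.range e)ᶜ, hc.isOpen_compl⟩

/-- Norm of a multiplication operator that is the identity plus a rank one map. -/
theorem norm_eq_of_section {A B : Type u} [CommRing A] [CommRing B] [Algebra A B] [Module.Free A B] [Module.Finite A B]
    (s : B →+* A) (hs : ∀ a, s (algebraMap A B a) = a) (ε : B) (hε : s ε = 1) (v : B)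
    (hv : ∀ x, v * x = x + algebraMap A B ((s v - 1) * s x) * ε) : Algebra.norm A v = s v := by
  classical
  let b := Module.Free.chooseBasis A B
  let c : Module.Free.ChooseBasisIndex A B → A := fun i => b.repr ε i
  let r : Module.Free.ChooseBasisIndex A B → A := fun j => (s v - 1) * s (b j)
  have hm : Algebra.leftMulMatrix b v = 1 + Matrix.replicateCol (Fin 1) c * Matrix.replicateRow (Fin 1) r := by
    ext i j
    rw [Algebra.leftMulMatrix_eq_repr_mul, hv, map_add, Finsupp.add_apply, ← Algebra.smul_def, map_smul,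
      Finsupp.smul_apply, smul_eq_mul, b.repr_self]
    simp [c, r, Matrix.mul_apply, Matrix.one_apply, Finsupp.single_apply, mul_comm, eq_comm]
  have hsum : ∑ j, r j * c j = (s v - 1) * s ε := by
    conv_rhs => rw [← b.sum_repr ε, map_sum]
    rw [Finset.mul_sum]
    refine Finset.sum_congr rfl fun j _ => ?_
    rw [Algebra.smul_def, map_mul, hs]
    simp only [r, c]
    ring
  rw [Algebra.norm_eq_matrix_det b, hm, Matrix.det_one_add_replicateCol_mul_replicateRow]
  show 1 + ∑ j, r j * c j = s v
  rw [hsum, hε]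
  ring

omit [IsFinite f] [Etale f] in
theorem Γ_ext_clopen {D P : Scheme.{u}} (e : D ⟶ P) [IsOpenImmersion e] (hc : IsClosed (Set.range e))
    (a b : Γ(P, ⊤)) (h₁ : e.appTop a = e.appTop b)
    (h₂ : (cmpl e hc).ι.appTop a = (cmpl e hc).ι.appTop b) :
    a = b := by
  let c : P.Opens := cmpl e hc
  let W : Bool → P.Opens := fun k => cond k e.opensRange c
  have key : ∀ (V : P.Opens) (x : Γ(P, ⊤)), V.ι.appTop x = V.topIso.inv (P.presheaf.map (homOfLE le_top).op x) :=
    fun V x => by
    rw [← CommRingCat.comp_apply]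
    congr 2
    simp [Scheme.Opens.topIso, ← Functor.map_comp]
  have hcov : (⊤ : P.Opens) ≤ iSup W := fun y _ => TopologicalSpace.Opens.mem_iSup.2 (by
    by_cases hy : y ∈ Set.range e
    · exact ⟨true, hy⟩
    · exact ⟨false, hy⟩)
  refine TopCat.Sheaf.eq_of_locally_eq' P.sheaf W ⊤ (fun _ => homOfLE le_top) hcov a b fun k => ?_
  apply (W k).topIso.commRingCatIsoToRingEquiv.symm.injective
  show (W k).topIso.inv _ = (W k).topIso.inv _
  refine ((key _ a).symm.trans ?_).trans (key _ b)
  cases k
  · exact h₂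
  · show e.opensRange.ι.appTop a = e.opensRange.ι.appTop b
    have h3 : ∀ x, e.opensRange.ι.appTop x = e.isoOpensRange.inv.appTop (e.appTop x) := fun x => by
      rw [← CommRingCat.comp_apply, ← Scheme.Hom.comp_appTop, Scheme.Hom.isoOpensRange_inv_comp]
    rw [h3, h3, h₁]

omit [IsFinite f] [Etale f] in
theorem exists_idem {D P : Scheme.{u}} (e : D ⟶ P) [IsOpenImmersion e] (hc : IsClosed (Set.range e)) :
    ∃ ε : Γ(P, ⊤), e.appTop ε = 1 ∧ (cmpl e hc).ι.appTop ε = 0 := by
  let c : P.Opens := cmpl e hc
  let W : Bool → P.Opens := fun k => cond k e.opensRange c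
  have key : ∀ (V : P.Opens) (x : Γ(P, ⊤)), V.ι.appTop x = V.topIso.inv (P.presheaf.map (homOfLE le_top).op x) :=
    fun V x => by
    rw [← CommRingCat.comp_apply]
    congr 2
    simp [Scheme.Opens.topIso, ← Functor.map_comp]
  have hcov : (⊤ : P.Opens) ≤ iSup W := fun y _ => TopologicalSpace.Opens.mem_iSup.2 (by
    by_cases hy : y ∈ Set.range e
    · exact ⟨true, hy⟩
    · exact ⟨false, hy⟩)
  let n : ∀ k, Γ(P, W k) := fun k => if k then 1 else 0
  have hd : ∀ k l, k ≠ l → W k ⊓ W l = ⊥ := fun k l hkl => by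
    refine eq_bot_iff.2 fun y hy => ?_
    cases k <;> cases l
    · exact absurd rfl hkl
    · exact absurd hy.2 hy.1
    · exact absurd hy.1 hy.2
    · exact absurd rfl hkl
  have hcomp : TopCat.Presheaf.IsCompatible P.sheaf.1 W n := fun k l => by
    by_cases hkl : k = l
    · subst hkl; rfl
    · haveI : Subsingleton Γ(P, W k ⊓ W l) := by rw [hd k l hkl]; infer_instance
      exact Subsingleton.elim (α := Γ(P, W k ⊓ W l)) _ _
  obtain ⟨ε, hε, -⟩ := TopCat.Sheaf.existsUnique_gluing' P.sheaf W ⊤ (fun _ => homOfLE le_top) hcov n hcomp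
  refine ⟨ε, ?_, (key c ε).trans ((congrArg c.topIso.inv (hε false)).trans (map_zero c.topIso.inv.hom))⟩
  have h3 : e.appTop ε = e.isoOpensRange.hom.appTop (e.opensRange.ι.appTop ε) := by
    rw [← CommRingCat.comp_apply, ← Scheme.Hom.comp_appTop, Scheme.Hom.isoOpensRange_hom_ι]
  rw [h3, show e.opensRange.ι.appTop ε = 1 from
    (key e.opensRange ε).trans ((congrArg e.opensRange.topIso.inv (hε true)).trans (map_one e.opensRange.topIso.inv.hom)),
    map_one]

variable (N : CGrpSh3.pushGm Scheme.fppfPrecoverage f ⟶ CGrpSh2.Gm Scheme.fppfPrecoverage X)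
  (hN : CGrpSh3.IsNormMap Scheme.fppfPrecoverage f N)

/-- The norm on sections. -/
def nv (U : Over X) : (GmF X').obj.obj (op (bc f U)) →+ (GmF X).obj.obj (op U) := (N.hom.app (op U)).hom

omit [IsFinite f] [Etale f] in
theorem nv_res {U' U : Over X} (h : U' ⟶ U) (r : (GmF X').obj.obj (op (bc f U))) :
    nv f N U' (res (GmF X') ((Over.pullback f).map h) r) = res (GmF X) h (nv f N U r) :=
  NatTrans.naturality_apply N.hom h.op r

include hN in
/-- The norm of an extension by one, over a free chart. -/
theorem gv_nv_of_good (V : Over X') (hV : NormGm.Good f (mo f V)) {u₀ : (GmF X').obj.obj (op V)}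
    {r : (GmF X').obj.obj (op (bc f (mo f V)))} (h : IsExt (GmF X') (eu f V) u₀ r) :
    gv (nv f N (mo f V) r) = gv u₀ := by
  letI := NormGm.prAlg f (mo f V)
  obtain ⟨hA, hfin, hfree⟩ := hV
  haveI := hA
  haveI := hfin
  haveI := hfree
  have hc := isClosed_range_eu f V
  obtain ⟨ε, hε1, hε0⟩ := exists_idem (eu f V).left hc
  have hs : ∀ a, (eu f V).left.appTop.hom (algebraMap Γ((mo f V).left, ⊤) Γ((bc f (mo f V)).left, ⊤) a) = a := fun a => by
    show (eu f V).left.appTop ((pullback.fst (V.hom ≫ f) f).appTop a) = a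
    exact congr(($(eu_fst f V)).appTop a)
  have hr : (eu f V).left.appTop (gv r) = gv u₀ := by rw [← gv_res, h.res_eq]
  have key := norm_eq_of_section (A := Γ((mo f V).left, ⊤)) (B := Γ((bc f (mo f V)).left, ⊤)) (eu f V).left.appTop.hom hs ε
    hε1 (gv r) fun x => by
      refine Γ_ext_clopen (eu f V).left hc _ _ ?_ ?_
      · rw [map_mul, map_add, map_mul, hε1, mul_one]
        erw [hs]
        have hkey : ∀ p q : Γ(V.left, ⊤), p * q = q + (p - 1) * q := fun p q => by ring
        exact hkey _ _
      · let c : (bc f (mo f V)).left.Opens := cmpl (eu f V).left hc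
        have h0 : c.ι.appTop (gv r) = 1 := by
          rw [show c.ι.appTop (gv r) = gv (res (GmF X') (subι c) r) from (gv_res (subι c) r).symm,
            h.avoid _ (subι c) fun y => y.2, gv_zero]
        rw [map_mul, map_add, map_mul, hε0, h0, mul_zero, add_zero, one_mul]
  refine (hN (mo f V) (fun _ => rfl) r.down.toMul).trans ?_
  exact key.trans hr

include hN in
/-- The norm of an extension by one from the graph. -/
theorem gv_nv_of_isExt (V : Over X') {u₀ : (GmF X').obj.obj (op V)}
    {r : (GmF X').obj.obj (op (bc f (mo f V)))} (h : IsExt (GmF X') (eu f V) u₀ r) :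
    gv (nv f N (mo f V) r) = gv u₀ := by
  choose W hxW hW using DualNormFp.exists_good f (mo f V)
  refine TopCat.Sheaf.eq_of_locally_eq' V.left.sheaf W ⊤ (fun x => homOfLE le_top)
    (fun x _ => TopologicalSpace.Opens.mem_iSup.2 ⟨x, hxW x⟩) _ _ fun x => ?_
  apply (W x).topIso.commRingCatIsoToRingEquiv.symm.injective
  show (W x).topIso.inv _ = (W x).topIso.inv _
  refine ((NormGm.appTop_sub (mo f V) (W x) _).symm.trans ?_).trans (NormGm.appTop_sub (mo f V) (W x) _)
  let V' : Over X' := sub (P := V) (W x)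
  let ι' : V' ⟶ V := subι (P := V) (W x)
  have hgood : NormGm.Good f (mo f V') :=
    (NormGm.good_bc f (Over.homMk (𝟙 _) (by simp [V', mo]) : mo f V' ⟶ Over.mk ((W x).ι ≫ (mo f V).hom)) (hW x).1
      (hW x)).1
  have h' := gv_nv_of_good f N hN V' hgood
    (h.pull (h := ι') (g := (Over.pullback f).map ((Over.map f).map ι')) (eu_natural f ι') (range_eu_preimage f ι'))
  rw [nv_res, gv_res, gv_res] at h'
  exact h'

end DualNormLib
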