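import Groth.Agent.ExtReesLib.UFD
import Mathlib

/-!
# Picard groups of Laurent polynomial rings over products of principal ideal domains
-/

set_option autoImplicit false
set_option linter.style.haveILetI false

universe u

open TensorProduct

namespace DualNormLib

theorem subsingleton_pic_laurent_pid (D : Type u) [CommRing D] [IsDomain D] [IsPrincipalIdealRing D] :
    Subsingleton (CommRing.Pic (LaurentPolynomial D)) := by
  haveI : UniqueFactorizationMonoid (LaurentPolynomial D) :=
    ExtReesLib.ufd_of_isLocalization (Submonoid.powers (Polynomial.X : Polynomial D))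
      (powers_le_nonZeroDivisors_of_noZeroDivisors Polynomial.X_ne_zero) (LaurentPolynomial D)
  infer_instance

/-- Coordinates of a trivialisable invertible module. -/
theorem exists_rank_one {A : Type u} [CommRing A] {L : Type u} [CommRing L] [Algebra A L]
    [Subsingleton (CommRing.Pic L)]
    (M : Type u) [AddCommGroup M] [Module A M] [Module.Invertible A M]
    (m : ℕ) (x : Fin m → M) (f : Fin m → M →ₗ[A] A) (hsum : ∀ z, ∑ k, f k z • x k = z) :
    ∃ a w : Fin m → L,
      (∀ k l, algebraMap A L (f k (x l)) = a l * w k) ∧ ∑ k, a k * w k = 1 := by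
  obtain ⟨φ⟩ := Module.Invertible.free_iff_linearEquiv.1 (inferInstance : Module.Free L (L ⊗[A] M))
  let F : Fin m → (L ⊗[A] M) →ₗ[L] L := fun k =>
    LinearMap.liftBaseChange L ((Algebra.linearMap A L).comp (f k))
  have hF : ∀ k y, F k (1 ⊗ₜ y) = algebraMap A L (f k y) := fun k y => by
    simp [F]
  have hz : ∀ y, ∑ k, F k y • ((1 : L) ⊗ₜ[A] x k) = y := fun y => by
    induction y using TensorProduct.induction_on with
    | zero => simp
    | add u v hu hv => simp only [map_add, add_smul, Finset.sum_add_distrib, hu, hv]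
    | tmul b y =>
      rw [show b ⊗ₜ[A] y = b • ((1 : L) ⊗ₜ[A] y) by
        rw [TensorProduct.smul_tmul', smul_eq_mul, mul_one]]
      simp only [map_smul, smul_assoc, hF, ← Finset.smul_sum, algebraMap_smul, ← TensorProduct.tmul_smul,
        ← TensorProduct.tmul_sum, hsum]
  refine ⟨fun l => φ (1 ⊗ₜ x l), fun k => F k (φ.symm 1), fun k l => ?_, ?_⟩
  · rw [← hF, ← smul_eq_mul, ← map_smul]
    congr 1
    apply φ.injective
    rw [map_smul, φ.apply_symm_apply, smul_eq_mul, mul_one]
  · have h := congrArg φ (hz (φ.symm 1))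
    simp only [map_sum, map_smul, φ.apply_symm_apply, smul_eq_mul] at h
    exact Eq.trans (Finset.sum_congr rfl fun k _ => mul_comm _ _) h

section bound

variable {D : Type u} [CommRing D] [IsDomain D]

/-- The sums of the extreme degrees of two factors lie in the support of the product. -/
theorem min_max_mem {p q : LaurentPolynomial D} (hp : p.coeff.support.Nonempty) (hq : q.coeff.support.Nonempty) :
    p.coeff.support.min' hp + q.coeff.support.min' hq ∈ (p * q).coeff.support ∧
      p.coeff.support.max' hp + q.coeff.support.max' hq ∈ (p * q).coeff.support := by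
  constructor
  · rw [Finsupp.mem_support_iff, AddMonoidAlgebra.coeff_mul_add_of_uniqueAdd (fun a b ha hb e => by
      have h1 := Finset.min'_le _ a ha
      have h2 := Finset.min'_le _ b hb
      omega)]
    exact mul_ne_zero (Finsupp.mem_support_iff.1 (Finset.min'_mem _ hp)) (Finsupp.mem_support_iff.1 (Finset.min'_mem _ hq))
  · rw [Finsupp.mem_support_iff, AddMonoidAlgebra.coeff_mul_add_of_uniqueAdd (fun a b ha hb e => by
      have h1 := Finset.le_max' _ a ha
      have h2 := Finset.le_max' _ b hb
      omega)]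
    exact mul_ne_zero (Finsupp.mem_support_iff.1 (Finset.max'_mem _ hp)) (Finsupp.mem_support_iff.1 (Finset.max'_mem _ hq))

/-- A rank one factorisation with bounded degrees. -/
theorem exists_bounded {m : ℕ} {a w : Fin m → LaurentPolynomial D} (hone : ∑ k, a k * w k = 1) (d : ℤ)
    (hd : ∀ k l, ∀ n ∈ (a l * w k).coeff.support, -d ≤ n ∧ n ≤ d) :
    ∃ a' w' : Fin m → LaurentPolynomial D, (∀ k l, a' l * w' k = a l * w k) ∧
      (∀ l, ∀ n ∈ (a' l).coeff.support, -(2 * d) ≤ n ∧ n ≤ 2 * d) ∧
      ∀ k, ∀ n ∈ (w' k).coeff.support, -(2 * d) ≤ n ∧ n ≤ 2 * d := by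
  have hne : ∀ {p : LaurentPolynomial D}, p ≠ 0 → p.coeff.support.Nonempty := fun {p} h => by
    by_contra hc
    rw [Finset.not_nonempty_iff_eq_empty, Finsupp.support_eq_empty] at hc
    exact h (LaurentPolynomial.ext fun n => by rw [hc]; rfl)
  obtain ⟨k₀, hk⟩ : ∃ k, a k * w k ≠ 0 := by
    by_contra h
    push_neg at h
    exact one_ne_zero (hone.symm.trans (Finset.sum_eq_zero fun k _ => h k))
  have ha₀ := left_ne_zero_of_mul hk
  have hw₀ := right_ne_zero_of_mul hk
  let s : ℤ := (a k₀).coeff.support.min' (hne ha₀)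
  refine ⟨fun l => a l * LaurentPolynomial.T (-s), fun k => w k * LaurentPolynomial.T s, fun k l => ?_, ?_, ?_⟩
  · rw [mul_mul_mul_comm, ← LaurentPolynomial.T_add, neg_add_cancel, LaurentPolynomial.T_zero, mul_one]
  · intro l n hn
    have hn' : n + s ∈ (a l).coeff.support := by
      rw [Finsupp.mem_support_iff] at hn ⊢
      refine fun h => hn ?_
      show (a l * AddMonoidAlgebra.single (-s) (1 : D)).coeff n = 0
      rw [AddMonoidAlgebra.coeff_mul_single_apply, show n + - -s = n + s by ring, h, zero_mul]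
    have hl : a l ≠ 0 := fun h => by simp [h] at hn'
    have h1 := min_max_mem (hne hl) (hne hw₀)
    have h2 := min_max_mem (hne ha₀) (hne hw₀)
    have b1 := hd k₀ l _ h1.1
    have b2 := hd k₀ l _ h1.2
    have b3 := hd k₀ k₀ _ h2.1
    have b4 := hd k₀ k₀ _ h2.2
    have c1 := Finset.min'_le _ _ hn'
    have c2 := Finset.le_max' _ _ hn'
    have c3 := Finset.min'_le_max' _ (hne hw₀)
    omega
  · intro k n hn
    have hn' : n - s ∈ (w k).coeff.support := by
      rw [Finsupp.mem_support_iff] at hn ⊢
      refine fun h => hn ?_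
      show (w k * AddMonoidAlgebra.single s (1 : D)).coeff n = 0
      rw [AddMonoidAlgebra.coeff_mul_single_apply, ← sub_eq_add_neg, h, zero_mul]
    have hk' : w k ≠ 0 := fun h => by simp [h] at hn'
    have h1 := min_max_mem (hne ha₀) (hne hk')
    have b1 := hd k k₀ _ h1.1
    have b2 := hd k k₀ _ h1.2
    have c1 := Finset.min'_le _ _ hn'
    have c2 := Finset.le_max' _ _ hn'
    have c3 := Finset.min'_le_max' _ (hne ha₀)
    omega

end bound

theorem subsingleton_pic_laurent {ι : Type u} (R : ι → Type u) [∀ i, CommRing (R i)] [∀ i, IsDomain (R i)]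
    [∀ i, IsPrincipalIdealRing (R i)] : Subsingleton (CommRing.Pic (LaurentPolynomial (∀ i, R i))) := by
  classical
  rw [CommRing.Pic.subsingleton_iff]
  intro M _ _ _
  obtain ⟨m, p, g, -, -, hpg⟩ := Module.Finite.exists_comp_eq_id_of_projective (LaurentPolynomial (∀ i, R i)) M
  let x : Fin m → M := fun k => p (Pi.single k 1)
  let f : Fin m → M →ₗ[LaurentPolynomial (∀ i, R i)] LaurentPolynomial (∀ i, R i) :=
    fun k => (LinearMap.proj k).comp g
  have hsum : ∀ z, ∑ k, f k z • x k = z := fun z => by
    have h := LinearMap.congr_fun hpg z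
    simp only [LinearMap.comp_apply, LinearMap.id_apply] at h
    conv_rhs => rw [← h, pi_eq_sum_univ' (g z), map_sum]
    simp only [map_smul]
    rfl
  let π : ∀ i, LaurentPolynomial (∀ i, R i) →+* LaurentPolynomial (R i) := fun i =>
    AddMonoidAlgebra.mapRingHom ℤ (Pi.evalRingHom R i)
  have hπ : ∀ i q n, (π i q).coeff n = q.coeff n i := fun i q n => by simp [π]
  have hex : ∀ {p q : LaurentPolynomial (∀ i, R i)}, (∀ i, π i p = π i q) → p = q := fun {p q} h =>
    LaurentPolynomial.ext fun n => funext fun i => by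
      have := congrArg (fun r : LaurentPolynomial (R i) => r.coeff n) (h i)
      simpa [hπ] using this
  let d : ℕ := Finset.univ.sup fun kl : Fin m × Fin m =>
    (f kl.1 (x kl.2)).coeff.support.sup Int.natAbs
  have hfac : ∀ i, ∃ a w : Fin m → LaurentPolynomial (R i),
      (∀ k l, π i (f k (x l)) = a l * w k) ∧ ∑ k, a k * w k = 1 ∧
      (∀ l, ∀ n ∈ (a l).coeff.support, -(2 * (d : ℤ)) ≤ n ∧ n ≤ 2 * d) ∧
      ∀ k, ∀ n ∈ (w k).coeff.support, -(2 * (d : ℤ)) ≤ n ∧ n ≤ 2 * d := fun i => by
    letI : Algebra (LaurentPolynomial (∀ i, R i)) (LaurentPolynomial (R i)) := (π i).toAlgebra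
    haveI := subsingleton_pic_laurent_pid (R i)
    obtain ⟨a, w, h1, h2⟩ := exists_rank_one (L := LaurentPolynomial (R i)) M m x f hsum
    obtain ⟨a', w', h3, h4, h5⟩ := exists_bounded h2 (d : ℤ) fun k l n hn => by
      rw [← h1, RingHom.algebraMap_toAlgebra] at hn
      have hn' : n ∈ (f k (x l)).coeff.support := by
        rw [Finsupp.mem_support_iff, hπ] at hn
        exact Finsupp.mem_support_iff.2 fun h => hn (by rw [h]; rfl)
      have h6 : n.natAbs ≤ d := le_trans (Finset.le_sup (f := Int.natAbs) hn')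
        (Finset.le_sup (f := fun kl : Fin m × Fin m => (f kl.1 (x kl.2)).coeff.support.sup Int.natAbs)
          (Finset.mem_univ (k, l)))
      omega
    refine ⟨a', w', fun k l => ?_, ?_, h4, h5⟩
    · exact (h1 k l).trans (h3 k l).symm
    · exact (Finset.sum_congr rfl fun k _ => h3 k k).trans h2
  choose a w h1 h2 h3 h4 using hfac
  have hlift : ∀ q : ∀ i, LaurentPolynomial (R i),
      (∀ i, ∀ n ∈ (q i).coeff.support, -(2 * (d : ℤ)) ≤ n ∧ n ≤ 2 * d) → ∃ Q, ∀ i, π i Q = q i := fun q hq => by
    refine ⟨∑ n ∈ Finset.Icc (-(2 * (d : ℤ))) (2 * d), AddMonoidAlgebra.single n (fun i => (q i).coeff n),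
      fun i => LaurentPolynomial.ext fun n => ?_⟩
    rw [hπ, AddMonoidAlgebra.coeff_sum, Finsupp.finset_sum_apply]
    simp only [AddMonoidAlgebra.coeff_single, Finsupp.single_apply, Finset.sum_ite_eq', Finset.mem_Icc]
    split_ifs with h
    · rfl
    · by_contra hc
      exact h (hq i n (Finsupp.mem_support_iff.2 (Ne.symm hc)))
  choose a' ha' using fun l => hlift (fun i => a i l) (fun i => h3 i l)
  choose w' hw' using fun k => hlift (fun i => w i k) (fun i => h4 i k)
  have e1 : ∀ k l, f k (x l) = a' l * w' k := fun k l => hex fun i => by rw [map_mul, ha', hw', h1]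
  have e2 : ∑ k, a' k * w' k = 1 := hex fun i => by simp only [map_sum, map_mul, map_one, ha', hw', h2]
  let φ : M →ₗ[LaurentPolynomial (∀ i, R i)] LaurentPolynomial (∀ i, R i) := ∑ k, a' k • f k
  let z : M := ∑ l, w' l • x l
  have hφz : φ z = 1 := by
    simp only [φ, z, LinearMap.sum_apply, LinearMap.smul_apply, map_sum, map_smul, smul_eq_mul, e1]
    rw [Finset.sum_congr rfl fun k _ => show w' k * (∑ l, a' l * (a' k * w' l)) =
      a' k * w' k * ∑ l, a' l * w' l by
        rw [Finset.mul_sum, Finset.mul_sum]; exact Finset.sum_congr rfl fun l _ => by ring,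
      ← Finset.sum_mul, e2, one_mul]
  have hx : ∀ y, φ y • z = y := fun y => by
    conv_rhs => rw [← hsum y]
    have hfl : ∀ l, f l y = φ y * w' l := fun l => by
      conv_lhs => rw [← hsum y]
      simp only [φ, LinearMap.sum_apply, LinearMap.smul_apply, map_sum, map_smul, smul_eq_mul, e1, Finset.sum_mul]
      exact Finset.sum_congr rfl fun k _ => by ring
    simp only [z, Finset.smul_sum, smul_smul, hfl]
  exact Module.Free.of_equiv (LinearEquiv.ofLinear φ (LinearMap.toSpanSingleton _ M z)
    (LinearMap.ext_ring (by simp [hφz])) (LinearMap.ext fun y => by simp [hx])).symm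

end DualNormLib

namespace DualNormLib

/-- Products of principal ideal domains are reduced with trivial Picard group of Laurent polynomials. -/
theorem good_of_equiv_prod {B : Type u} [CommRing B] {κ : Type u} (D : κ → Type u) [∀ i, CommRing (D i)]
    [∀ i, IsDomain (D i)] [∀ i, IsPrincipalIdealRing (D i)] (e : B ≃+* ∀ i, D i) :
    IsReduced B ∧ Subsingleton (CommRing.Pic (LaurentPolynomial B)) := by
  refine ⟨isReduced_of_injective e.toRingHom e.injective, ?_⟩
  haveI := subsingleton_pic_laurent D
  let E : LaurentPolynomial B ≃+* LaurentPolynomial (∀ i, D i) := AddMonoidAlgebra.mapRingEquiv ℤ e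
  refine Function.Injective.subsingleton (f := CommRing.Pic.mapRingHom E.toRingHom) fun a b hab => ?_
  have h := congrArg (CommRing.Pic.mapRingHom E.symm.toRingHom) hab
  rwa [CommRing.Pic.mapRingHom_mapRingHom, CommRing.Pic.mapRingHom_mapRingHom, RingEquiv.symm_toRingHom_comp_toRingHom,
    CommRing.Pic.mapRingHom_id] at h

end DualNormLib
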