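import Groth.Agent.DualNormLib.Norm

/-!
# Restriction of the dual of the multiplicative group along a morphism
-/

set_option autoImplicit false
set_option backward.isDefEq.respectTransparency false
set_option backward.isDefEq.respectTransparency.types false
set_option linter.style.haveILetI false
set_option maxHeartbeats 1000000
universe u

open CategoryTheory CategoryTheory.Limits AlgebraicGeometry Opposite

noncomputable section

namespace DualNormLib

variable {S S' : Scheme.{u}} (g : S' ⟶ S)

/-- Restriction to the source. -/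
abbrev pull1 (F : BigSite.Ab Scheme.fppfPrecoverage S) : BigSite.Ab Scheme.fppfPrecoverage S' :=
  (BigSite.pullBig Scheme.fppfPrecoverage g AddCommGrpCat.{u + 1}).obj F

/-- The internal Hom. -/
abbrev hom2 {S : Scheme.{u}} (F G : BigSite.Ab Scheme.fppfPrecoverage S) : BigSite.Ab Scheme.fppfPrecoverage S :=
  HomSh.homSh (QuotSh.J Scheme.fppfPrecoverage S) F G

/-- An object over an object of the source as an object over the source. -/
abbrev lo {T : Over S'} {W : Over S} (k : W ⟶ mo g T) : Over S' := Over.mk (k.left ≫ T.hom)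

theorem lo_w {T : Over S'} {W : Over S} (k : W ⟶ mo g T) : W.hom = (lo g k).hom ≫ g := by
  simpa using (Over.w k).symm

/-- Its structure morphism. -/
abbrev lot {T : Over S'} {W : Over S} (k : W ⟶ mo g T) : lo g k ⟶ T := Over.homMk k.left rfl

/-- The comparison with the original object. -/
abbrev loe {T : Over S'} {W : Over S} (k : W ⟶ mo g T) : mo g (lo g k) ⟶ W :=
  Over.homMk (𝟙 W.left) (by simpa using lo_w g k)

/-- The inverse comparison. -/
abbrev loi {T : Over S'} {W : Over S} (k : W ⟶ mo g T) : W ⟶ mo g (lo g k) :=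
  Over.homMk (𝟙 W.left) (by simpa using (lo_w g k).symm)

variable (F G : BigSite.Ab Scheme.fppfPrecoverage S)

/-- Restriction of a character. -/
def rFwd (T : Over S') (φ : F.over (mo g T) ⟶ G.over (mo g T)) : (pull1 g F).over T ⟶ (pull1 g G).over T :=
  mkEv (fun W h => ev φ ((Over.map g).map h)) fun W' W k h h' e x => by
    subst e
    show ev φ ((Over.map g).map (k ≫ h)) (res F ((Over.map g).map k) x) =
      res G ((Over.map g).map k) (ev φ ((Over.map g).map h) x)
    rw [Functor.map_comp, ev_res]

/-- Extension of a character. -/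
def rBwd (T : Over S') (ψ : (pull1 g F).over T ⟶ (pull1 g G).over T) : F.over (mo g T) ⟶ G.over (mo g T) :=
  mkEv (fun W k => (res G (loi g k)).comp ((ev ψ (lot g k)).comp (res F (loe g k)))) fun W' W m k k' e x => by
    subst e
    let m' : lo g (m ≫ k) ⟶ lo g k := Over.homMk m.left (by simp [lo])
    have h1 : loe g (m ≫ k) ≫ m = (Over.map g).map m' ≫ loe g k :=
      Over.OverMorphism.ext (by simp [loe, m', lo, mo])
    have h2 : lot g (m ≫ k) = m' ≫ lot g k := Over.OverMorphism.ext (by simp [lot, m', lo])
    have h3 : loi g (m ≫ k) ≫ (Over.map g).map m' = m ≫ loi g k :=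
      Over.OverMorphism.ext (by simp [loi, m', lo, mo])
    show res G (loi g (m ≫ k)) (ev ψ (lot g (m ≫ k)) (res F (loe g (m ≫ k)) (res F m x))) =
      res G m (res G (loi g k) (ev ψ (lot g k) (res F (loe g k) x)))
    rw [res_res, res_res, h1, ← res_res, h2]
    refine (congrArg (res G _) (ev_res ψ m' (lot g k) _)).trans ?_
    refine (res_res (F := G) _ ((Over.map g).map m') _).trans ?_
    rw [h3]

theorem rFwd_rBwd (T : Over S') (ψ : (pull1 g F).over T ⟶ (pull1 g G).over T) :
    rFwd g F G T (rBwd g F G T ψ) = ψ := ev_hom_ext fun W h x => by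
  show res G (loi g ((Over.map g).map h)) (ev ψ (lot g ((Over.map g).map h))
    (res F (loe g ((Over.map g).map h)) x)) = ev ψ h x
  let q : W ⟶ lo g ((Over.map g).map h) := Over.homMk (𝟙 W.left) (by simp [lo, mo])
  let q' : lo g ((Over.map g).map h) ⟶ W := Over.homMk (𝟙 W.left) (by simp [lo, mo])
  have h1 : loi g ((Over.map g).map h) = (Over.map g).map q := Over.OverMorphism.ext rfl
  have h2 : loe g ((Over.map g).map h) = (Over.map g).map q' := Over.OverMorphism.ext rfl
  rw [h1, h2]
  refine (ev_res ψ q (lot g ((Over.map g).map h)) _).symm.trans ?_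
  have h3 : q ≫ lot g ((Over.map g).map h) = h := Over.OverMorphism.ext (by simp [q, lot, lo, mo])
  have h4 : q ≫ q' = 𝟙 W := Over.OverMorphism.ext (by simp [q, q'])
  rw [h3]
  refine congrArg (ev ψ h) ?_
  refine (res_res (F := pull1 g F) q q' x).trans ?_
  rw [h4]
  exact res_id (F := pull1 g F) x

theorem rBwd_rFwd (T : Over S') (φ : F.over (mo g T) ⟶ G.over (mo g T)) :
    rBwd g F G T (rFwd g F G T φ) = φ := ev_hom_ext fun W k x => by
  show res G (loi g k) (ev φ ((Over.map g).map (lot g k)) (res F (loe g k) x)) = ev φ k x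
  rw [← ev_res, res_res]
  have h1 : loi g k ≫ (Over.map g).map (lot g k) = k := Over.OverMorphism.ext (by simp [loi, lot, lo, mo])
  have h2 : loi g k ≫ loe g k = 𝟙 W := Over.OverMorphism.ext (by simp [loi, loe])
  rw [h1, h2, res_id]

/-- Restriction commutes with the internal Hom. -/
theorem nonempty_pull_hom : Nonempty (pull1 g (hom2 F G) ≅ hom2 (pull1 g F) (pull1 g G)) :=
  ⟨(fullyFaithfulSheafToPresheaf _ _).preimageIso (NatIso.ofComponents
    (fun T => AddEquiv.toAddCommGrpIso
      (X := (pull1 g (hom2 F G)).obj.obj T) (Y := (hom2 (pull1 g F) (pull1 g G)).obj.obj T)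
      { toFun := rFwd g F G T.unop
        invFun := rBwd g F G T.unop
        left_inv := rBwd_rFwd g F G T.unop
        right_inv := rFwd_rBwd g F G T.unop
        map_add' := fun _ _ => ev_hom_ext fun _ _ _ => rfl })
    fun {T T'} t => AddCommGrpCat.ext fun φ => ev_hom_ext (S := S') (T := T'.unop) fun W h x => by
      show ev (show F.over (mo g T.unop) ⟶ G.over (mo g T.unop) from φ)
          ((Over.map g).map h ≫ (Over.map g).map t.unop) x =
        ev (show F.over (mo g T.unop) ⟶ G.over (mo g T.unop) from φ) ((Over.map g).map (h ≫ t.unop)) x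
      rw [← Functor.map_comp])⟩

theorem toX'_bijective (V : Over S') : Function.Bijective (toX' g V) :=
  ⟨toX'_injective g V, fun y => ⟨gmk (mo g V) (gu (S := S') (U := V) y), gv_inj (by rw [gv_toX', gv_gmk]; rfl)⟩⟩

/-- Restriction of the multiplicative group. -/
theorem nonempty_pull_gm : Nonempty (pull1 g (GmF S) ≅ GmF S') :=
  ⟨(fullyFaithfulSheafToPresheaf _ _).preimageIso (NatIso.ofComponents
    (fun T => AddEquiv.toAddCommGrpIso
      (X := (pull1 g (GmF S)).obj.obj T) (Y := (GmF S').obj.obj T)
      (AddEquiv.ofBijective (toX' g T.unop) (toX'_bijective g T.unop)))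
    fun {T T'} t => AddCommGrpCat.ext fun x => toX'_res g t.unop x)⟩

/-- Restriction of the dual of the multiplicative group. -/
theorem nonempty_pull_dual_gm :
    Nonempty (pull1 g (CGrpSh2.dualSh Scheme.fppfPrecoverage (GmF S)) ≅
      CGrpSh2.dualSh Scheme.fppfPrecoverage (GmF S')) := by
  obtain ⟨a⟩ := nonempty_pull_hom g (GmF S) (GmF S)
  obtain ⟨b⟩ := nonempty_pull_gm g
  exact ⟨a ≪≫ ((HomSh.homShBi (QuotSh.J Scheme.fppfPrecoverage S')).mapIso b.symm.op).app _ ≪≫
    ((HomSh.homShBi (QuotSh.J Scheme.fppfPrecoverage S')).obj (op (GmF S'))).mapIso b⟩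

end DualNormLib
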