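import Groth.Agent.DualNormLib.Main
import Groth.Agent.DualNormLib.Restrict
import Groth.Agent.DualNormLib.GmExtReduced
import Groth.Agent.BigBCLib.Main
import Groth.Agent.S13964
import Groth.Agent.S13965

/-!
# Vanishing of the first cohomology of the dual of a Weil restriction
-/

set_option autoImplicit false
set_option linter.style.haveILetI false
set_option maxHeartbeats 1000000
universe u

open CategoryTheory CategoryTheory.Limits AlgebraicGeometry Opposite
open scoped TensorProduct

noncomputable section

namespace DualNormLib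

theorem subsingleton_H_pull_dual_push (R A O' : Type u) [CommRing R] [CommRing A] [CommRing O'] [Algebra R A]
    [Algebra R O'] [IsFinite (Spec.map (CommRingCat.ofHom (algebraMap R O')))]
    [Etale (Spec.map (CommRingCat.ofHom (algebraMap R O')))]
    [IsReduced (A ⊗[R] O')] [Subsingleton (CommRing.Pic (LaurentPolynomial (A ⊗[R] O')))] :
    Subsingleton (BigSite.H Scheme.fppfPrecoverage (Spec (CommRingCat.of A))
      ((BigSite.pullBig Scheme.fppfPrecoverage (Spec.map (CommRingCat.ofHom (algebraMap R A))) AddCommGrpCat.{u + 1}).obj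
        (CGrpSh2.dualSh Scheme.fppfPrecoverage
          (CGrpSh3.pushGm Scheme.fppfPrecoverage (Spec.map (CommRingCat.ofHom (algebraMap R O')))))) 1) := by
  let f := Spec.map (CommRingCat.ofHom (algebraMap R O'))
  let g := Spec.map (CommRingCat.ofHom (algebraMap R A))
  let B := CommRingCat.of (A ⊗[R] O')
  let inl : CommRingCat.of A ⟶ B := CommRingCat.ofHom Algebra.TensorProduct.includeLeftRingHom
  let inr : CommRingCat.of O' ⟶ B :=
    CommRingCat.ofHom (Algebra.TensorProduct.includeRight (R := R) (A := A) (B := O')).toRingHom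
  have hsq : IsPullback (Spec.map inr) (Spec.map inl) f g :=
    (isPullback_SpecMap_of_isPushout _ _ _ _ (CommRingCat.isPushout_tensorProduct R A O')).flip
  haveI : IsReduced B := ‹IsReduced (A ⊗[R] O')›
  haveI : Subsingleton (CommRing.Pic (LaurentPolynomial B)) :=
    ‹Subsingleton (CommRing.Pic (LaurentPolynomial (A ⊗[R] O')))›
  let GB := CGrpSh2.dualSh Scheme.fppfPrecoverage (CGrpSh2.Gm Scheme.fppfPrecoverage (Spec (CommRingCat.of O')))
  haveI := isIso_dualNormMap f (CGrpSh2.Gm Scheme.fppfPrecoverage (Spec (CommRingCat.of O')))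
    (DualNormFp.normMap f) (DualNormFp.isNormMap f)
  obtain ⟨bc⟩ := BigBCLib.nonempty_pushBig_pullBig Scheme.fppfPrecoverage AddCommGrpCat.{u + 1} hsq
  obtain ⟨e⟩ := nonempty_pull_dual_gm (Spec.map inr)
  have h0 := subsingleton_H_one_dual_gm B
  have hlift := Groth.Agent.S13965.lift_of_subsingleton_H_one (S := Spec B) _ h0
  have h1 := Groth.Agent.S13964.subsingleton_H_one_push (Spec.map inl) _ hlift
  refine Groth.Agent.S13965.subsingleton_H_of_iso ?_ h1
  exact (BigSite.pushBig Scheme.fppfPrecoverage (Spec.map inl) AddCommGrpCat.{u + 1}).mapIso e.symm ≪≫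
    (bc.app GB).symm ≪≫ (BigSite.pullBig Scheme.fppfPrecoverage g AddCommGrpCat.{u + 1}).mapIso
      (asIso (CGrpSh3.dualNormMap Scheme.fppfPrecoverage f (DualNormFp.normMap f) _))

end DualNormLib
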